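import Cfsg.Agent.Lib.Transfer.Glauberman
import Cfsg.Agent.Lib.Transfer.Thompson
import Cfsg.Agent.Lib.Transfer.Abelian
import Cfsg.Agent.Lib.Basics.ThompsonFpf
import Cfsg.Agent.Lib.Basics.Cores

/-!
# Groups with a centralizer partition by maximal subgroups
-/

set_option autoImplicit false
set_option linter.style.haveILetI false
set_option linter.unusedSectionVars false

namespace Cfsg.Agent.Classes23

open Subgroup Cfsg Cfsg.Agent.Transfer
open scoped Classical commutatorElement IsMulCommutative Pointwise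

universe u

variable {Q : Type u} [Group Q] [Finite Q]

/-- An abstract system of maximal centralizers in a central quotient. -/
structure CentSys (Q : Type u) [Group Q] where
  M : Q → Subgroup Q
  coatom : ∀ x, x ≠ 1 → IsCoatom (M x)
  symm : ∀ x y, x ≠ 1 → y ≠ 1 → y ∈ M x → x ∈ M y
  comm : ∀ x y, x ≠ 1 → y ∈ M x → Commute x y
  self : ∀ x, x ∈ M x
  prod : ∀ y z, y ≠ 1 → z ≠ 1 → y * z ≠ 1 → M y ⊓ M z ≤ M (y * z)
  conj : ∀ g x, x ≠ 1 → M (g * x * g⁻¹) = (M x).map (MulAut.conj g).toMonoidHom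

namespace CentSys

variable (S : CentSys Q)

theorem eq_of_le {x y : Q} (hx : x ≠ 1) (hy : y ≠ 1) (h : S.M x ≤ S.M y) : S.M x = S.M y := by
  by_contra hne
  exact (S.coatom y hy).1 ((S.coatom x hx).2 _ (lt_of_le_of_ne h hne))

theorem M_pow {x : Q} (hx : x ≠ 1) {k : ℕ} (hk : x ^ k ≠ 1) : S.M (x ^ k) = S.M x := by
  refine (S.eq_of_le hx hk ?_).symm
  induction k with
  | zero => simp at hk
  | succ k ih =>
    rw [pow_succ] at hk ⊢
    by_cases h1 : x ^ k = 1
    · rw [h1, one_mul]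
    · exact (le_inf (ih h1) le_rfl).trans (S.prod _ _ h1 hx hk)

theorem M_inv {x : Q} (hx : x ≠ 1) : S.M x⁻¹ = S.M x := by
  have h : x⁻¹ = x ^ (orderOf x - 1) := by
    apply inv_eq_of_mul_eq_one_right
    rw [← pow_succ', Nat.sub_add_cancel (orderOf_pos x), pow_orderOf_eq_one]
  rw [h]
  refine S.M_pow hx ?_
  rw [← h]
  exact inv_ne_one.mpr hx

theorem M_mul_eq {y z : Q} (hy : y ≠ 1) (hz : z ≠ 1) (hyz : y * z ≠ 1) (h : S.M y = S.M z) :
    S.M (y * z) = S.M y :=
  (S.eq_of_le hy hyz ((le_inf le_rfl h.le).trans (S.prod y z hy hz hyz))).symm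

theorem pow_orderOf_eq_one_of_commute {x y : Q} (hx : x ≠ 1) (hy : y ≠ 1) (hxy : Commute x y)
    (hne : S.M x ≠ S.M y) : y ^ orderOf x = 1 := by
  by_contra h
  have he : (x * y) ^ orderOf x = y ^ orderOf x := by
    rw [hxy.mul_pow, pow_orderOf_eq_one, one_mul]
  have hxy1 : x * y ≠ 1 := fun e => hne (by
    rw [eq_inv_of_mul_eq_one_left e, S.M_inv hy])
  have h1 : S.M (x * y) = S.M y := by
    rw [← S.M_pow hxy1 (k := orderOf x) (by rw [he]; exact h), he, S.M_pow hy h]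
  have h2 := S.M_mul_eq hxy1 (inv_ne_one.mpr hy) (by simpa using hx) (by rw [h1, S.M_inv hy])
  rw [mul_inv_cancel_right, h1] at h2
  exact hne h2

theorem orderOf_eq_prime {x y : Q} (hx : x ≠ 1) (hy : y ≠ 1) (hxy : Commute x y)
    (hne : S.M x ≠ S.M y) : (orderOf x).Prime ∧ orderOf y = orderOf x := by
  have key : ∀ a : Q, a ≠ 1 → Commute a y → S.M a ≠ S.M y → orderOf y = orderOf a :=
    fun a ha hay hn => Nat.dvd_antisymm
      (orderOf_dvd_of_pow_eq_one (S.pow_orderOf_eq_one_of_commute ha hy hay hn))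
      (orderOf_dvd_of_pow_eq_one (S.pow_orderOf_eq_one_of_commute hy ha hay.symm hn.symm))
  have hy' := key x hx hxy hne
  refine ⟨?_, hy'⟩
  have hn1 : orderOf x ≠ 1 := fun h => hx (orderOf_eq_one_iff.mp h)
  set q := (orderOf x).minFac with hq
  have hqp : q.Prime := Nat.minFac_prime hn1
  have hd : orderOf x / q ∣ orderOf x := Nat.div_dvd_of_dvd (Nat.minFac_dvd _)
  have hdne : orderOf x / q ≠ 0 :=
    (Nat.div_pos (Nat.minFac_le (orderOf_pos x)) hqp.pos).ne'
  have hoz : orderOf (x ^ (orderOf x / q)) = q := by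
    rw [orderOf_pow_of_dvd hdne hd, Nat.div_div_self (Nat.minFac_dvd _) (orderOf_pos x).ne']
  have hz1 : x ^ (orderOf x / q) ≠ 1 := fun h => by
    rw [h, orderOf_one] at hoz; exact hqp.ne_one hoz.symm
  have := key _ hz1 (hxy.pow_left _) (by rw [S.M_pow hx hz1]; exact hne)
  rw [hy', hoz] at this
  exact this ▸ hqp

theorem commute_of_same {y z : Q} (hy : y ≠ 1) (hz : z ≠ 1) (h : S.M y = S.M z) : Commute y z :=
  S.comm y z hy (h ▸ S.self z)

theorem commute_of_normal {x y : Q} (hx : x ≠ 1) (hy : y ≠ 1) (hnx : (S.M x).Normal)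
    (hny : (S.M y).Normal) : Commute x y := by
  by_cases hM : S.M x = S.M y
  · exact S.commute_of_same hx hy hM
  have hfix : ∀ g w : Q, w ≠ 1 → (S.M w).Normal → S.M (g * w * g⁻¹) = S.M w := by
    intro g w hw hn
    rw [S.conj g w hw]
    exact mem_normalizer_iff_map_conj_eq.mp (by rw [normalizer_eq_top_iff.mpr hn]; trivial)
  rw [← commutatorElement_eq_one_iff_commute]
  by_contra hc
  apply hM
  have hy' : x * y * x⁻¹ ≠ 1 := fun e => hy (conj_eq_one_iff.mp e)
  have hx' : y * x⁻¹ * y⁻¹ ≠ 1 := fun e => hx (inv_eq_one.mp (conj_eq_one_iff.mp e))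
  have e1 : ⁅x, y⁆ = (x * y * x⁻¹) * y⁻¹ := commutatorElement_def x y
  have e2 : ⁅x, y⁆ = x * (y * x⁻¹ * y⁻¹) := by simp [commutatorElement_def, mul_assoc]
  have h1 : S.M ⁅x, y⁆ = S.M y := by
    rw [e1, S.M_mul_eq hy' (inv_ne_one.mpr hy) (e1 ▸ hc) (by rw [hfix x y hy hny, S.M_inv hy]),
      hfix x y hy hny]
  have hnxi : (S.M x⁻¹).Normal := by rwa [S.M_inv hx]
  have h2 : S.M ⁅x, y⁆ = S.M x := by
    rw [e2, S.M_mul_eq hx hx' (e2 ▸ hc) (by rw [hfix y x⁻¹ (inv_ne_one.mpr hx) hnxi, S.M_inv hx])]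
  rw [← h1, h2]

/-- All nontrivial elements of a mixed centralizer have the same prime order. -/
theorem orderOf_of_mixed {x y : Q} (hx : x ≠ 1) (hy : y ≠ 1) (hyx : y ∈ S.M x)
    (hne : S.M x ≠ S.M y) : (orderOf x).Prime ∧ ∀ w ∈ S.M x, w ≠ 1 → orderOf w = orderOf x := by
  obtain ⟨hp, hoy⟩ := S.orderOf_eq_prime hx hy (S.comm x y hx hyx) hne
  refine ⟨hp, fun w hw hw1 => ?_⟩
  by_cases hwx : S.M x = S.M w
  · rw [← hoy]
    exact ((S.orderOf_eq_prime hw1 hy (S.comm w y hw1 (hwx ▸ hyx)) (hwx ▸ hne)).2).symm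
  · exact (S.orderOf_eq_prime hx hw1 (S.comm x w hx hw) hwx).2

end CentSys

variable {p : ℕ} [hp : Fact p.Prime]

theorem mul_pow_eq_prod (V : Subgroup Q) [IsMulCommutative V] (a : Q)
    (ha : a ∈ normalizer (V : Set Q)) (v : V) (n : ℕ) :
    ((v : Q) * a) ^ n = (((∏ i ∈ Finset.range n,
      (⟨a ^ i * v * (a ^ i)⁻¹, (mem_normalizer_iff.mp (pow_mem ha i) _).mp v.2⟩ : V)) : V) : Q) *
        a ^ n := by
  induction n with
  | zero => simp
  | succ n ih =>
    rw [pow_succ, ih, Finset.prod_range_succ, Subgroup.coe_mul, pow_succ a n]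
    simp [mul_assoc]

/-- The conjugation map on a subgroup. -/
def cmap (V : Subgroup Q) (g : normalizer (V : Set Q)) (v : V) : V :=
  ⟨(g : Q) * v * (g : Q)⁻¹, (mem_normalizer_iff.mp g.2 _).mp v.2⟩

theorem cmap_mul (V : Subgroup Q) (g h : normalizer (V : Set Q)) (v : V) :
    cmap V (g * h) v = cmap V g (cmap V h v) := Subtype.ext (by simp [cmap, mul_assoc])

theorem cmap_one (V : Subgroup Q) (v : V) : cmap V 1 v = v := Subtype.ext (by simp [cmap])

theorem cmap_prod (V : Subgroup Q) [IsMulCommutative V] (g : normalizer (V : Set Q)) {ι : Type*}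
    (s : Finset ι) (f : ι → V) : cmap V g (∏ i ∈ s, f i) = ∏ i ∈ s, cmap V g (f i) := by
  induction s using Finset.induction_on with
  | empty => exact Subtype.ext (by simp [cmap])
  | insert i s hi ih =>
    rw [Finset.prod_insert hi, Finset.prod_insert hi, ← ih]
    exact Subtype.ext (by simp [cmap, mul_assoc])

/-- The double-product identity for a Frobenius action, general form. -/
theorem pow_card_eq_one_of_frobenius_norm (V : Subgroup Q) [IsMulCommutative V] (K : Subgroup Q)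
    (hKV : K ≤ normalizer (V : Set Q))
    {y : Q} (hyV : y ∈ normalizer (V : Set Q))
    (hyK : y ∈ normalizer (K : Set Q)) (hyp : y ^ p = 1)
    (hKy : ∀ i, 0 < i → i < p → ∀ k ∈ K, Commute (y ^ i) k → k = 1)
    (hVK : ∀ v ∈ V, (∀ k ∈ K, Commute k v) → v = 1)
    (hexp : ∀ v ∈ V, ∀ k ∈ K, (v * (k * y * k⁻¹)) ^ p = 1) : ∀ v ∈ V, v ^ Nat.card K = 1 := by
  intro v hv
  haveI := Fintype.ofFinite K
  let ky : K → normalizer (V : Set Q) := fun k => ⟨k, hKV k.2⟩
  let y' : normalizer (V : Set Q) := ⟨y, hyV⟩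
  have hnorm : ∀ (w : V) (k : K),
      (∏ i ∈ Finset.range p, cmap V ((ky k * y' * (ky k)⁻¹) ^ i) w) = 1 := by
    intro w k
    have h1 := hexp w w.2 k k.2
    have hkp : ((k : Q) * y * (k : Q)⁻¹) ^ p = 1 := by rw [conj_pow, hyp, mul_one, mul_inv_cancel]
    rw [mul_pow_eq_prod V _ (mul_mem (mul_mem (hKV k.2) hyV) (inv_mem (hKV k.2))) w p, hkp,
      mul_one] at h1
    refine Subtype.ext (Eq.trans ?_ h1)
    congr 1
  have hsum : ∀ w : V, (∏ k : K, cmap V (ky k) w) = 1 := by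
    intro w
    refine Subtype.ext (hVK _ (Subtype.mem _) fun k hk => ?_)
    have h1 : cmap V (ky ⟨k, hk⟩) (∏ j : K, cmap V (ky j) w) = ∏ j : K, cmap V (ky j) w := by
      rw [cmap_prod]
      refine Fintype.prod_equiv (Equiv.mulLeft ⟨k, hk⟩) _ _ fun j => ?_
      rw [← cmap_mul]; rfl
    exact mul_inv_eq_iff_eq_mul.mp (congrArg Subtype.val h1)
  have htot : (⟨v, hv⟩ : V) ^ Nat.card K = 1 := by
    have h1 : (∏ i ∈ Finset.range p, ∏ k : K, cmap V ((ky k * y' * (ky k)⁻¹) ^ i) ⟨v, hv⟩) = 1 := by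
      rw [Finset.prod_comm]
      exact Finset.prod_eq_one fun k _ => hnorm _ k
    rw [Finset.prod_eq_single 0] at h1
    · rw [Nat.card_eq_fintype_card]
      simpa [cmap_one] using h1
    · intro i hi hi0
      rw [Finset.mem_range] at hi
      have hyiK : y ^ i ∈ normalizer (K : Set Q) := pow_mem hyK i
      let τ : K → K := fun k => ⟨(k : Q) * (y ^ i * (k : Q)⁻¹ * (y ^ i)⁻¹),
        mul_mem k.2 ((mem_normalizer_iff.mp hyiK _).mp (inv_mem k.2))⟩
      have hτ : Function.Injective τ := by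
        intro a b e
        have e' : (a : Q) * (y ^ i * (a : Q)⁻¹ * (y ^ i)⁻¹) =
            (b : Q) * (y ^ i * (b : Q)⁻¹ * (y ^ i)⁻¹) := congrArg Subtype.val e
        have e'' : (a : Q) * y ^ i * (a : Q)⁻¹ = (b : Q) * y ^ i * (b : Q)⁻¹ := by
          have := congrArg (· * y ^ i) e'
          simpa [mul_assoc] using this
        have h2 := hKy i (Nat.pos_of_ne_zero hi0) hi ((b : Q)⁻¹ * a)
          (mul_mem (inv_mem b.2) a.2) (by
          show y ^ i * ((b : Q)⁻¹ * a) = (b : Q)⁻¹ * a * y ^ i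
          calc y ^ i * ((b : Q)⁻¹ * a) = (b : Q)⁻¹ * ((b : Q) * y ^ i * (b : Q)⁻¹) * a := by
                simp [mul_assoc]
            _ = (b : Q)⁻¹ * ((a : Q) * y ^ i * (a : Q)⁻¹) * a := by rw [e'']
            _ = _ := by simp [mul_assoc])
        exact Subtype.ext (inv_mul_eq_one.mp h2).symm
      have hbij := Finite.injective_iff_bijective.mp hτ
      rw [← hsum (cmap V (y' ^ i) ⟨v, hv⟩)]
      refine Fintype.prod_equiv (Equiv.ofBijective τ hbij) _ _ fun k => ?_
      rw [← cmap_mul]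
      congr 1
      rw [conj_pow]
      refine Subtype.ext ?_
      simp [τ, ky, y', mul_assoc]
    · simp [hp.out.ne_zero]
  exact congrArg Subtype.val htot

/-- The double-product identity for a Frobenius action. -/
theorem eq_one_of_frobenius_norm (V : Subgroup Q) [IsMulCommutative V] (K : Subgroup Q)
    (hKV : K ≤ normalizer (V : Set Q)) (hVp : ∀ v ∈ V, v ^ p = 1)
    (hpK : ¬ p ∣ Nat.card K) {y : Q} (hyV : y ∈ normalizer (V : Set Q))
    (hyK : y ∈ normalizer (K : Set Q)) (hyp : y ^ p = 1)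
    (hKy : ∀ i, 0 < i → i < p → ∀ k ∈ K, Commute (y ^ i) k → k = 1)
    (hVK : ∀ v ∈ V, (∀ k ∈ K, Commute k v) → v = 1)
    (hexp : ∀ v ∈ V, ∀ k ∈ K, (v * (k * y * k⁻¹)) ^ p = 1) : V = ⊥ := by
  refine (eq_bot_iff_forall V).mpr fun v hv => ?_
  refine orderOf_eq_one_iff.mp (Nat.eq_one_of_dvd_coprimes (hp.out.coprime_iff_not_dvd.mpr hpK)
    (orderOf_dvd_of_pow_eq_one (hVp v hv)) (orderOf_dvd_of_pow_eq_one
      (pow_card_eq_one_of_frobenius_norm V K hKV hyV hyK hyp hKy hVK hexp v hv)))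

/-- An elementary group of order `p^2` cannot act fixed-point-freely. -/
theorem pow_eq_one_of_fpf (V : Subgroup Q) [IsMulCommutative V] {x y : Q}
    (hx : x ∈ normalizer (V : Set Q)) (hy : y ∈ normalizer (V : Set Q))
    (hxp : x ^ p = 1) (hyp : y ^ p = 1) (hxy : Commute x y)
    (hne : ∀ j, x * y ^ j ≠ 1) (hy1 : ∀ i, 0 < i → i < p → y ^ i ≠ 1)
    (hfix : ∀ w : Q, w ≠ 1 → w ∈ closure ({x, y} : Set Q) → ∀ v ∈ V, Commute w v → v = 1) :
    ∀ v ∈ V, v ^ p = 1 := by
  intro v hv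
  let x' : normalizer (V : Set Q) := ⟨x, hx⟩
  let y' : normalizer (V : Set Q) := ⟨y, hy⟩
  have hxc : x ∈ closure ({x, y} : Set Q) := subset_closure (by simp)
  have hyc : y ∈ closure ({x, y} : Set Q) := subset_closure (by simp)
  have hnorm : ∀ (a : normalizer (V : Set Q)), (a : Q) ∈ closure ({x, y} : Set Q) →
      (a : Q) ≠ 1 → (a : Q) ^ p = 1 → ∀ w : V, (∏ i ∈ Finset.range p, cmap V (a ^ i) w) = 1 := by
    intro a hac ha hap w
    refine Subtype.ext (hfix _ ha hac _ (Subtype.mem _) ?_)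
    have h1 : cmap V a (∏ i ∈ Finset.range p, cmap V (a ^ i) w) =
        ∏ i ∈ Finset.range p, cmap V (a ^ i) w := by
      have ha' : a ^ p = 1 := Subtype.ext hap
      have e : ∀ i, cmap V a (cmap V (a ^ i) w) = cmap V (a ^ (i + 1)) w := fun i => by
        rw [← cmap_mul, ← pow_succ']
      rw [cmap_prod]
      simp only [e]
      have h2 := Finset.prod_range_succ' (fun i => cmap V (a ^ i) w) p
      rw [Finset.prod_range_succ, ha', pow_zero, cmap_one] at h2
      exact (mul_right_cancel h2).symm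
    exact mul_inv_eq_iff_eq_mul.mp (congrArg Subtype.val h1)
  have htot : (⟨v, hv⟩ : V) ^ p = 1 := by
    have h1 : (∏ i ∈ Finset.range p, ∏ j ∈ Finset.range p,
        cmap V ((x' * y' ^ j) ^ i) ⟨v, hv⟩) = 1 := by
      rw [Finset.prod_comm]
      refine Finset.prod_eq_one fun j _ => hnorm _ ?_ (hne j) ?_ _
      · exact mul_mem hxc (pow_mem hyc j)
      · show (x * y ^ j) ^ p = 1
        rw [(hxy.pow_right j).mul_pow, hxp, ← pow_mul, mul_comm, pow_mul, hyp, one_pow, one_mul]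
    rw [Finset.prod_eq_single 0] at h1
    · simpa [cmap_one] using h1
    · intro i hi hi0
      rw [Finset.mem_range] at hi
      have hxy' : ∀ j, (x' * y' ^ j) ^ i = x' ^ i * (y' ^ i) ^ j := fun j => by
        rw [((show Commute x' y' from Subtype.ext hxy.eq).pow_right j).mul_pow, ← pow_mul,
          ← pow_mul, mul_comm i j]
      simp only [hxy', cmap_mul, ← cmap_prod]
      rw [hnorm (y' ^ i) (pow_mem hyc i) (hy1 i (Nat.pos_of_ne_zero hi0) hi) (by
        show (y ^ i) ^ p = 1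
        rw [← pow_mul, mul_comm, pow_mul, hyp, one_pow])]
      exact Subtype.ext (by simp [cmap])
    · simp [hp.out.ne_zero]
  exact congrArg Subtype.val htot

end Cfsg.Agent.Classes23
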