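import Cfsg.Agent.Lib.Classes23.CentPartition

/-!
# Structure of groups with a centralizer partition by maximal subgroups
-/

set_option autoImplicit false
set_option linter.style.haveILetI false
set_option linter.unusedSectionVars false
set_option maxHeartbeats 1000000

namespace Cfsg.Agent.Classes23

open Subgroup Cfsg Cfsg.Agent.Transfer Cfsg.Agent.Basics
open scoped Classical commutatorElement IsMulCommutative Pointwise

universe u

variable {Q : Type u} [Group Q] [Finite Q]

theorem isPGroup_of_forall {p : ℕ} {H : Subgroup Q} (h : ∀ w ∈ H, w ≠ 1 → orderOf w = p) :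
    IsPGroup p H := fun w => ⟨1, by
  by_cases hw : (w : Q) = 1
  · simp [show w = 1 from Subtype.ext hw]
  · have := h w w.2 hw
    rw [orderOf_coe] at this
    rw [pow_one, ← this, pow_orderOf_eq_one]⟩

theorem normal_of_coatom_pGroup {p : ℕ} [Fact p.Prime] (hQ : IsPGroup p Q) {H : Subgroup Q}
    (hH : IsCoatom H) : H.Normal := by
  haveI := hQ.isNilpotent
  exact NormalizerCondition.normal_of_coatom H (Group.normalizerCondition_of_isNilpotent) hH

theorem pow_ne_one_of_prime {p i : ℕ} (hp : p.Prime) {y : Q} (hy : orderOf y = p) (h0 : 0 < i)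
    (hi : i < p) : y ^ i ≠ 1 := fun h =>
  absurd (Nat.le_of_dvd h0 (hy ▸ orderOf_dvd_of_pow_eq_one h)) (Nat.not_le.mpr hi)

/-- Exponent `p` Sylow subgroup which contains the centralizers of its nontrivial elements:
not both maximal, non-normal and non-cyclic. -/
theorem no_maximal_exponent_p {p : ℕ} [hp : Fact p.Prime] (P : Sylow p Q)
    (hco : IsCoatom (P : Subgroup Q)) (hnn : ¬ (P : Subgroup Q).Normal)
    (hexp : ∀ w ∈ (P : Subgroup Q), w ^ p = 1)
    (hcent : ∀ w : Q, w ≠ 1 → (∃ k, orderOf w = p ^ k) → ∀ g, Commute g w → g ^ p = 1)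
    (hab2 : p = 2 → ∀ a ∈ (P : Subgroup Q), ∀ b ∈ (P : Subgroup Q), Commute a b)
    {x y : Q} (hxP : x ∈ (P : Subgroup Q)) (hyP : y ∈ (P : Subgroup Q)) (hxy : Commute x y)
    (hne : ∀ j : ℕ, x * y ^ j ≠ 1) (hy1 : y ≠ 1) : False := by
  have hexp' : ∀ w : Q, (∃ k, orderOf w = p ^ k) → w ^ p = 1 := fun w hw => by
    by_cases h1 : w = 1
    · simp [h1]
    · exact hcent w h1 hw w (Commute.refl w)
  have hpow : ∀ w : Q, w ^ p = 1 → ∃ k, orderOf w = p ^ k := fun w hw => by
    obtain ⟨k, -, hk⟩ := (Nat.dvd_prime_pow hp.out).mp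
      (orderOf_dvd_of_pow_eq_one (show w ^ p ^ 1 = 1 by rwa [pow_one]))
    exact ⟨k, hk⟩
  set R := Cfsg.pCore p Q with hRdef
  have hR : IsPGroup p R := pCore_isPGroup p
  have hRP : R ≤ (P : Subgroup Q) := pCore_le_sylow p P
  set f := QuotientGroup.mk' R with hf
  have hfs : Function.Surjective f := QuotientGroup.mk'_surjective R
  let P' : Sylow p (Q ⧸ R) := P.mapSurjective hfs
  have hP'coe : (P' : Subgroup (Q ⧸ R)) = (P : Subgroup Q).map f := Sylow.coe_mapSurjective _ _
  have hP'bot : (P' : Subgroup (Q ⧸ R)) ≠ ⊥ := by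
    intro hb
    rw [hP'coe, Subgroup.map_eq_bot_iff, QuotientGroup.ker_mk'] at hb
    exact hnn (le_antisymm hb hRP ▸ inferInstance)
  -- normalizers of nontrivial subgroups normal in the Sylow subgroup
  have hloc : ∀ W : Subgroup (Q ⧸ R), W ≠ ⊥ → W ≤ (P' : Subgroup (Q ⧸ R)) →
      normalizer ((P' : Subgroup (Q ⧸ R)) : Set (Q ⧸ R)) ≤ normalizer (W : Set (Q ⧸ R)) →
      normalizer (W : Set (Q ⧸ R)) = (P' : Subgroup (Q ⧸ R)) := by
    intro W hW hWP hN
    have hPN := (le_normalizer (H := (P' : Subgroup (Q ⧸ R)))).trans hN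
    have hle : (P : Subgroup Q) ≤ (normalizer (W : Set (Q ⧸ R))).comap f :=
      map_le_iff_le_comap.mp (hP'coe ▸ hPN)
    rcases hco.le_iff.mp hle with h | h
    · exfalso
      have htop : normalizer (W : Set (Q ⧸ R)) = ⊤ := by
        rw [← map_comap_eq_self_of_surjective hfs (normalizer (W : Set (Q ⧸ R))), h,
          map_top_of_surjective f hfs]
      haveI : W.Normal := normalizer_eq_top_iff.mp htop
      have hWp : IsPGroup p (W.comap f) :=
        (P'.2.to_le hWP).comap_of_ker_isPGroup f (by rw [QuotientGroup.ker_mk']; exact hR)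
      haveI : (W.comap f).Normal := Subgroup.Normal.comap inferInstance f
      apply hW
      rw [← map_comap_eq_self_of_surjective hfs W, Subgroup.map_eq_bot_iff,
        QuotientGroup.ker_mk']
      exact le_pCore hWp
    · rw [← map_comap_eq_self_of_surjective hfs (normalizer (W : Set (Q ⧸ R))), h, hP'coe]
  have hQnc : HasNormalPComplement p (Q ⧸ R) := by
    rcases eq_or_ne p 2 with hp2 | hp2
    · refine hasNormalPComplement_of_normalizer_le P' ?_
      show normalizer ((P' : Subgroup (Q ⧸ R)) : Set (Q ⧸ R)) ≤ _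
      rw [hloc _ hP'bot le_rfl le_rfl]
      intro a ha b hb
      simp only [SetLike.mem_coe] at hb
      change b ∈ (P' : Subgroup (Q ⧸ R)) at hb
      rw [hP'coe] at hb
      rw [hP'coe] at ha
      obtain ⟨a', ha', rfl⟩ := ha
      obtain ⟨b', hb', rfl⟩ := hb
      exact ((hab2 hp2 b' hb' a' ha').map f).eq
    · let F := zjFunctor.{u} p hp2 0 (Or.inl rfl)
      refine (PCompFunctor.hasNormalPComplement_iff' F hp2 P').mpr ?_
      have hW1 := F.ne_bot _ _ P'.2 hP'bot
      show HasNormalPComplement p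
        (normalizer (F.W _ (P' : Subgroup (Q ⧸ R)) : Set (Q ⧸ R)))
      rw [hloc _ hW1 (F.le _ _) (PCompFunctor.normalizer_le F P'.2)]
      haveI := P'.2.isNilpotent
      exact Cfsg.Agent.Basics.hasNormalPComplement_of_nilpotent p
  obtain ⟨Kb, hKb, hKc⟩ := (hasNormalPComplement_of_sylow P').mp hQnc
  haveI := hKb
  have hKp : ¬ p ∣ Nat.card Kb := by
    have h1 := P'.not_dvd_index
    rwa [hKc.index_eq_card] at h1
  have hKbot : Nat.card Kb ≠ 1 := by
    intro h1
    rw [card_eq_one] at h1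
    subst h1
    have h2 : (P' : Subgroup (Q ⧸ R)) = ⊤ := by simpa using hKc.sup_eq_top
    rw [hP'coe] at h2
    have h3 : ((P : Subgroup Q).map f).comap f = ⊤ := by rw [h2, comap_top]
    rw [comap_map_eq_self (by rw [QuotientGroup.ker_mk']; exact hRP)] at h3
    exact hco.1 h3
  set K := Kb.comap f with hK
  haveI hKn : K.Normal := Subgroup.Normal.comap hKb f
  obtain ⟨q, hq, hqd⟩ := Nat.exists_prime_and_dvd hKbot
  have hqp : q ≠ p := fun h => hKp (h ▸ hqd)
  haveI := Fact.mk hq
  obtain ⟨T⟩ : Nonempty (Sylow q K) := inferInstance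
  set T' := (T : Subgroup K).map K.subtype with hT'
  have hTq : IsPGroup q T' := T.2.map _
  have hT'ne : T' ≠ ⊥ := by
    rw [Ne, hT', Subgroup.map_eq_bot_iff, K.ker_subtype, le_bot_iff]
    refine T.ne_bot_of_dvd_card ?_
    refine hqd.trans ?_
    calc Nat.card Kb = Nat.card (K.map f) := by rw [hK, map_comap_eq_self_of_surjective hfs Kb]
      _ ∣ Nat.card K := card_dvd_of_surjective (f.subgroupMap K) (f.subgroupMap_surjective K)
  have hfr := Sylow.normalizer_sup_eq_top T
  set N := normalizer (T' : Set Q) with hN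
  -- `p` divides the order of the normalizer
  have hpN : p ∣ Nat.card N := by
    have h1 : K.index ∣ Nat.card N := by
      have h3 : N.map (QuotientGroup.mk' K) = ⊤ := by
        rw [← map_top_of_surjective (QuotientGroup.mk' K) (QuotientGroup.mk'_surjective K), ← hfr,
          Subgroup.map_sup, (Subgroup.map_eq_bot_iff K).mpr (by rw [QuotientGroup.ker_mk']),
          sup_bot_eq]
      rw [show K.index = Nat.card (Q ⧸ K) from rfl, ← card_top (G := Q ⧸ K), ← h3]
      exact card_dvd_of_surjective _ ((QuotientGroup.mk' K).subgroupMap_surjective N)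
    refine dvd_trans ?_ h1
    rw [hK, index_comap_of_surjective _ hfs, hKc.symm.index_eq_card]
    haveI : Nontrivial (P' : Subgroup (Q ⧸ R)) := (nontrivial_iff_ne_bot _).mpr hP'bot
    obtain ⟨n, hn0, hn⟩ := P'.2.nontrivial_iff_card.mp inferInstance
    rw [hn]
    exact dvd_pow_self p (by omega)
  obtain ⟨z', hz'⟩ := exists_prime_orderOf_dvd_card' p hpN
  set z := (z' : Q) with hzdef
  have hzo : orderOf z = p := by rw [hzdef, orderOf_coe, hz']
  have hzN : z ∈ N := z'.2
  have hzp : z ^ p = 1 := hzo ▸ pow_orderOf_eq_one z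
  have hqfree : ∀ t ∈ T', t ^ p = 1 → t = 1 := fun t ht h => by
    obtain ⟨k, hk⟩ := IsPGroup.iff_orderOf.mp hTq ⟨t, ht⟩
    rw [orderOf_mk] at hk
    exact orderOf_eq_one_iff.mp (Nat.eq_one_of_dvd_coprimes
      (Nat.Coprime.pow_right k ((Nat.coprime_primes hp.out hq).mpr hqp.symm))
      (orderOf_dvd_of_pow_eq_one h) hk.dvd)
  have hfpf : ∀ w : Q, w ≠ 1 → w ^ p = 1 → ∀ t ∈ T', Commute w t → t = 1 := fun w hw hwp t ht hc =>
    hqfree t ht (hcent w hw (hpow w hwp) t hc.symm)
  rcases eq_or_ne R ⊥ with hR0 | hR0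
  · -- a subgroup of order `p^2` in the normalizer
    have hKcard : ¬ p ∣ Nat.card K := by
      intro h
      have hsub : Nat.card K = Nat.card Kb := by
        have hinj : Function.Injective f := by
          rw [← MonoidHom.ker_eq_bot_iff, hf, QuotientGroup.ker_mk', hR0]
        rw [← map_comap_eq_self_of_surjective hfs Kb,
          Nat.card_congr (equivMapOfInjective K f hinj).toEquiv]
      exact hKp (hsub ▸ h)
    obtain ⟨S₀⟩ : Nonempty (Sylow p N) := inferInstance
    have hS : Nat.card ((S₀ : Subgroup N).map N.subtype) = p ^ (Nat.card Q).factorization p := by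
      rw [Nat.card_congr (equivMapOfInjective (S₀ : Subgroup N) _ N.subtype_injective).toEquiv.symm,
        S₀.card_eq_multiplicity]
      congr 1
      refine le_antisymm ((Nat.factorization_le_iff_dvd Nat.card_pos.ne' Nat.card_pos.ne').mpr
        (card_subgroup_dvd_card N) p) ?_
      have h1 : Nat.card Q ∣ Nat.card K * Nat.card N := by
        rw [← card_mul_index K]
        refine mul_dvd_mul_left _ ?_
        have h3 : N.map (QuotientGroup.mk' K) = ⊤ := by
          rw [← map_top_of_surjective (QuotientGroup.mk' K) (QuotientGroup.mk'_surjective K),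
            ← hfr, Subgroup.map_sup,
            (Subgroup.map_eq_bot_iff K).mpr (by rw [QuotientGroup.ker_mk']), sup_bot_eq]
        rw [show K.index = Nat.card (Q ⧸ K) from rfl, ← card_top (G := Q ⧸ K), ← h3]
        exact card_dvd_of_surjective _ ((QuotientGroup.mk' K).subgroupMap_surjective N)
      have h2 := (Nat.factorization_le_iff_dvd Nat.card_pos.ne'
        (Nat.mul_pos Nat.card_pos Nat.card_pos).ne').mpr h1 p
      rw [Nat.factorization_mul Nat.card_pos.ne' Nat.card_pos.ne', Finsupp.add_apply,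
        Nat.factorization_eq_zero_of_not_dvd hKcard, zero_add] at h2
      exact h2
    obtain ⟨c, hc⟩ := MulAction.exists_smul_eq Q P (Sylow.ofCard _ hS)
    have hcN : ∀ w ∈ (P : Subgroup Q), c * w * c⁻¹ ∈ N := by
      intro w hw
      have h1 : c * w * c⁻¹ ∈ ((Sylow.ofCard _ hS : Sylow p Q) : Subgroup Q) := by
        rw [← hc]; exact ⟨w, hw, rfl⟩
      exact map_subtype_le _ h1
    set a := c * x * c⁻¹ with ha
    set b := c * y * c⁻¹ with hb
    let V := T' ⊓ centralizer (T' : Set Q)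
    haveI : IsMulCommutative V := ⟨⟨fun u v => Subtype.ext (v.2.2 u u.2.1)⟩⟩
    have hNV : N ≤ normalizer (V : Set Q) := by
      intro g hg
      rw [mem_normalizer_iff_map_conj_eq] at hg ⊢
      show (T' ⊓ centralizer (T' : Set Q)).map _ = _
      refine eq_of_le_of_card_ge ?_ (by
        rw [Nat.card_congr (equivMapOfInjective _ _ (MulAut.conj g).injective).toEquiv.symm])
      rintro _ ⟨v, hv, rfl⟩
      refine ⟨hg ▸ ⟨v, hv.1, rfl⟩, fun t ht => ?_⟩
      rw [SetLike.mem_coe, ← hg] at ht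
      obtain ⟨t', ht', rfl⟩ := ht
      have hcomm : t' * v = v * t' := hv.2 t' ht'
      show (MulAut.conj g) t' * (MulAut.conj g) v = (MulAut.conj g) v * (MulAut.conj g) t'
      rw [← map_mul, ← map_mul, hcomm]
    have hap : a ^ p = 1 := by rw [ha, conj_pow, hexp x hxP, mul_one, mul_inv_cancel]
    have hbp : b ^ p = 1 := by rw [hb, conj_pow, hexp y hyP, mul_one, mul_inv_cancel]
    have hab : Commute a b := hxy.map (MulAut.conj c).toMonoidHom
    have hyo : orderOf y = p := orderOf_eq_prime (hexp y hyP) hy1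
    have hcl : ∀ w ∈ closure ({a, b} : Set Q), w ^ p = 1 := by
      intro w hw
      have hle : closure ({a, b} : Set Q) ≤
          ((P : Subgroup Q).map (MulAut.conj c).toMonoidHom) := by
        rw [closure_le]
        rintro w (rfl | rfl)
        · exact ⟨x, hxP, rfl⟩
        · exact ⟨y, hyP, rfl⟩
      obtain ⟨w', hw', rfl⟩ := hle hw
      rw [← map_pow, hexp w' hw', map_one]
    have hbad := pow_eq_one_of_fpf (p := p) V (hNV (hcN x hxP)) (hNV (hcN y hyP)) hap hbp hab
      (fun j h => hne j (by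
        rw [conj_pow, show c * x * c⁻¹ * (c * y ^ j * c⁻¹) = c * (x * y ^ j) * c⁻¹ by group,
          conj_eq_one_iff] at h
        exact h))
      (fun i h0 hi h => pow_ne_one_of_prime hp.out
        (show orderOf b = p by rw [hb, ← MulAut.conj_apply, MulEquiv.orderOf_eq, hyo]) h0 hi h)
      (fun w hw hwc v hv hcm => hfpf w hw (hcl w hwc) v hv.1 hcm)
    refine center_ne_bot hTq hT'ne ?_
    exact (eq_bot_iff_forall _).mpr fun v hv => hqfree v hv.1 (hbad v hv)
  · -- Frobenius action on the centre of the core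
    let V := R ⊓ centralizer (R : Set Q)
    haveI : IsMulCommutative V := ⟨⟨fun u v => Subtype.ext (v.2.2 u u.2.1)⟩⟩
    have hVn : normalizer (V : Set Q) = ⊤ := by
      rw [normalizer_eq_top_iff]
      exact normal_inf_normal R (centralizer (R : Set Q))
    refine center_ne_bot hR hR0 (eq_one_of_frobenius_norm (p := p) V T' (by rw [hVn]; exact le_top)
      (fun v hv => hexp v (hRP hv.1)) ?_ (by rw [hVn]; trivial) hzN hzp ?_ ?_ ?_)
    · intro hd
      obtain ⟨t, ht⟩ := exists_prime_orderOf_dvd_card' p hd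
      have ht1 : (t : Q) = 1 := hqfree t t.2 (by
        rw [← ht, ← orderOf_coe]; exact pow_orderOf_eq_one _)
      rw [show t = 1 from Subtype.ext ht1, orderOf_one] at ht
      exact hp.out.ne_one ht.symm
    · intro i h0 hi t ht hc
      refine hfpf (z ^ i) (pow_ne_one_of_prime hp.out hzo h0 hi) ?_ t ht hc
      rw [← pow_mul, mul_comm, pow_mul, hzp, one_pow]
    · intro v hv hcm
      by_contra hv1
      obtain ⟨t, ht, ht1⟩ := T'.bot_or_exists_ne_one.resolve_left hT'ne
      exact ht1 (hfpf v hv1 (hexp v (hRP hv.1)) t ht (hcm t ht).symm)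
    · intro v hv t ht
      refine hexp' _ ?_
      have hn : zpowers (t * z * t⁻¹) ≤ normalizer (R : Set Q) := by
        rw [normalizer_eq_top_iff.mpr inferInstance]; exact le_top
      have hz2 : IsPGroup p (zpowers (t * z * t⁻¹)) :=
        IsPGroup.of_card_dvd_pow (n := 1) (by
          rw [Nat.card_zpowers, pow_one, ← MulAut.conj_apply, MulEquiv.orderOf_eq, hzo])
      have hmem : v * (t * z * t⁻¹) ∈ zpowers (t * z * t⁻¹) ⊔ R :=
        mul_mem (mem_sup_right hv.1) (mem_sup_left (mem_zpowers _))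
      obtain ⟨k, hk⟩ := IsPGroup.iff_orderOf.mp (hz2.to_sup_of_normal_right' hR hn) ⟨_, hmem⟩
      exact ⟨k, by rwa [orderOf_mk] at hk⟩

namespace CentSys

variable (S : CentSys Q)

/-- A non-normal centralizer is abelian and consists of one component. -/
theorem same_of_not_normal {x : Q} (hx : x ≠ 1) (hn : ¬ (S.M x).Normal) :
    ∀ w ∈ S.M x, w ≠ 1 → S.M w = S.M x := by
  intro y hyx hy
  by_contra hne'
  have hne : S.M x ≠ S.M y := fun e => hne' e.symm
  obtain ⟨hpr, hord⟩ := S.orderOf_of_mixed hx hy hyx hne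
  haveI := Fact.mk hpr
  have hMp : IsPGroup (orderOf x) (S.M x) := isPGroup_of_forall hord
  obtain ⟨P, hP⟩ := hMp.exists_le_sylow
  have hPM : (P : Subgroup Q) = S.M x := by
    refine ((S.coatom x hx).le_iff.mp hP).resolve_left fun h => hn ?_
    exact normal_of_coatom_pGroup (IsPGroup.of_equiv (h ▸ P.2) Subgroup.topEquiv) (S.coatom x hx)
  have hexpM : ∀ w ∈ S.M x, w ≠ 1 → ¬ (S.M w).Normal ∧
      ∀ g ∈ S.M w, g ^ orderOf x = 1 := by
    intro w hw hw1
    by_cases he : S.M w = S.M x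
    · rw [he]
      refine ⟨hn, fun g hg => ?_⟩
      by_cases hg1 : g = 1
      · simp [hg1]
      · rw [← hord g hg hg1]; exact pow_orderOf_eq_one g
    · obtain ⟨-, hord'⟩ := S.orderOf_of_mixed hw1 hx (S.symm x w hx hw1 hw) he
      have hwo := hord w hw hw1
      refine ⟨fun hnw => ?_, fun g hg => ?_⟩
      · apply he
        have h1 : S.M w ≤ (P : Subgroup Q) := by
          haveI := hnw
          exact (le_pCore (isPGroup_of_forall (p := orderOf x)
            fun g hg hg1 => (hord' g hg hg1).trans hwo)).trans (pCore_le_sylow _ P)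
        exact S.eq_of_le hw1 hx (hPM ▸ h1)
      · by_cases hg1 : g = 1
        · simp [hg1]
        · rw [← hwo, ← hord' g hg hg1]; exact pow_orderOf_eq_one g
  have hconjn : ∀ w ∈ S.M x, w ≠ 1 → ∀ g, Commute g w → g ∈ S.M w := by
    intro w hw hw1 g hg
    have h1 : (S.M w).map (MulAut.conj g).toMonoidHom = S.M w := by
      rw [← S.conj g w hw1, show g * w * g⁻¹ = w from mul_inv_eq_iff_eq_mul.mpr hg.eq]
    have h2 : g ∈ normalizer (S.M w : Set Q) := mem_normalizer_iff_map_conj_eq.mpr h1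
    rcases (S.coatom w hw1).le_iff.mp (le_normalizer (H := S.M w)) with h | h
    · exact absurd (normalizer_eq_top_iff.mp h) (hexpM w hw hw1).1
    · rwa [h] at h2
  have hcent : ∀ w : Q, w ≠ 1 → (∃ k, orderOf w = orderOf x ^ k) →
      ∀ g, Commute g w → g ^ orderOf x = 1 := by
    rintro w hw1 ⟨k, hk⟩ g hg
    obtain ⟨T, hT⟩ := (IsPGroup.of_card (n := k) (G := zpowers w)
      (by rw [Nat.card_zpowers, hk])).exists_le_sylow
    obtain ⟨c, hc⟩ := MulAction.exists_smul_eq Q T P
    have hcw : c * w * c⁻¹ ∈ S.M x := by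
      rw [← hPM, ← hc]; exact ⟨w, hT (mem_zpowers w), rfl⟩
    have hcw1 : c * w * c⁻¹ ≠ 1 := fun e => hw1 (conj_eq_one_iff.mp e)
    have h1 := (hexpM _ hcw hcw1).2 _ (hconjn _ hcw hcw1 (c * g * c⁻¹)
      (hg.map (MulAut.conj c).toMonoidHom))
    rw [conj_pow, conj_eq_one_iff] at h1
    exact h1
  have hexp : ∀ w ∈ (P : Subgroup Q), w ^ orderOf x = 1 := by
    intro w hw
    rw [hPM] at hw
    by_cases hw1 : w = 1
    · simp [hw1]
    · rw [← hord w hw hw1]; exact pow_orderOf_eq_one w
  refine no_maximal_exponent_p P (hPM ▸ S.coatom x hx) (hPM ▸ hn) hexp hcent ?_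
    (hPM ▸ S.self x) (hPM ▸ hyx) (S.comm x y hx hyx) ?_ hy
  · intro h2 a ha b hb
    have e1 := hexp a ha
    have e2 := hexp b hb
    have e3 := hexp (a * b) (mul_mem ha hb)
    rw [h2, pow_two] at e1 e2 e3
    have ai : a⁻¹ = a := inv_eq_of_mul_eq_one_right e1
    have bi : b⁻¹ = b := inv_eq_of_mul_eq_one_right e2
    have abi : (a * b)⁻¹ = a * b := inv_eq_of_mul_eq_one_right e3
    show a * b = b * a
    rw [← abi, mul_inv_rev, ai, bi]
  · intro j h
    have hx' : x = (y ^ j)⁻¹ := eq_inv_of_mul_eq_one_left h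
    have hyj : y ^ j ≠ 1 := fun e => hx (by rw [hx', e, inv_one])
    exact hne (by rw [hx', S.M_inv hyj, S.M_pow hy hyj])

/-- The elements whose centralizer is conjugate to that of `x`. -/
def classSet (x : Q) : Set Q :=
  {w | w ≠ 1 ∧ ∃ g : Q, S.M w = (S.M x).map (MulAut.conj g).toMonoidHom}

theorem card_classSet {x : Q} (hx : x ≠ 1) (hn : ¬ (S.M x).Normal) :
    Nat.card (S.classSet x) + (S.M x).index = Nat.card Q := by
  haveI := Fintype.ofFinite (S.M x)
  have hN : normalizer (S.M x : Set Q) = S.M x :=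
    ((S.coatom x hx).le_iff.mp le_normalizer).resolve_left
      fun h => hn (normalizer_eq_top_iff.mp h)
  let φ : (Q ⧸ S.M x) × {m : S.M x // m ≠ 1} → S.classSet x := fun a =>
    ⟨a.1.out * (a.2.1 : Q) * (a.1.out)⁻¹, fun e => a.2.2 (Subtype.ext (conj_eq_one_iff.mp e)),
      a.1.out, by
        rw [S.conj _ _ (fun e => a.2.2 (Subtype.ext e)),
          S.same_of_not_normal hx hn _ a.2.1.2 (fun e => a.2.2 (Subtype.ext e))]⟩
  have hφ : Function.Injective φ := by
    rintro ⟨c, m⟩ ⟨c', m'⟩ e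
    have e' : c.out * (m.1 : Q) * (c.out)⁻¹ = c'.out * (m'.1 : Q) * (c'.out)⁻¹ :=
      congrArg Subtype.val e
    have hm : (m.1 : Q) ≠ 1 := fun e => m.2 (Subtype.ext e)
    have hm' : (m'.1 : Q) ≠ 1 := fun e => m'.2 (Subtype.ext e)
    have h1 := congrArg S.M e'
    rw [S.conj _ _ hm, S.conj _ _ hm', S.same_of_not_normal hx hn _ m.1.2 hm,
      S.same_of_not_normal hx hn _ m'.1.2 hm'] at h1
    have h2 : (c'.out)⁻¹ * c.out ∈ normalizer (S.M x : Set Q) := by
      rw [mem_normalizer_iff_map_conj_eq]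
      have h3 := congrArg (Subgroup.map (MulAut.conj (c'.out)⁻¹).toMonoidHom) h1
      rw [map_map, map_map] at h3
      have e1 : ∀ a b : Q, (MulAut.conj a).toMonoidHom.comp (MulAut.conj b).toMonoidHom =
          (MulAut.conj (a * b)).toMonoidHom := fun a b => by ext; simp [mul_assoc]
      rw [e1, e1, inv_mul_cancel, map_one] at h3
      exact h3.trans (map_id _)
    rw [hN] at h2
    have hcc : c' = c := by
      rw [← QuotientGroup.out_eq' c', ← QuotientGroup.out_eq' c]
      exact QuotientGroup.eq.mpr h2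
    subst hcc
    simp only [mul_left_inj, mul_right_inj] at e'
    exact Prod.ext rfl (Subtype.ext (Subtype.ext e'))
  have hsurj : Function.Surjective φ := by
    rintro ⟨v, hv1, g, hg⟩
    have hk : (QuotientGroup.mk g : Q ⧸ S.M x).out⁻¹ * g ∈ S.M x :=
      QuotientGroup.eq.mp (QuotientGroup.out_eq' _)
    set c := (QuotientGroup.mk g : Q ⧸ S.M x).out with hc
    obtain ⟨m, hm, hv⟩ : v ∈ (S.M x).map (MulAut.conj g).toMonoidHom := hg ▸ S.self v
    have hv' : g * m * g⁻¹ = v := hv
    have hmem : c⁻¹ * v * c ∈ S.M x := by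
      have := mul_mem (mul_mem hk hm) (inv_mem hk)
      rw [← hv']; simpa [mul_assoc] using this
    refine ⟨(QuotientGroup.mk g, ⟨⟨_, hmem⟩, fun e => hv1 ?_⟩), Subtype.ext ?_⟩
    · have e' : c⁻¹ * v * c = 1 := congrArg Subtype.val e
      have := congrArg (fun t => c * t * c⁻¹) e'
      simpa [mul_assoc] using this
    · show c * (c⁻¹ * v * c) * c⁻¹ = v
      simp [mul_assoc]
  have h1 := Nat.card_eq_of_bijective φ ⟨hφ, hsurj⟩
  rw [Nat.card_prod, show Nat.card (Q ⧸ S.M x) = (S.M x).index from rfl] at h1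
  have h2 : Nat.card {m : S.M x // m ≠ 1} + 1 = Nat.card (S.M x) := by
    have h3 : Nat.card {m : S.M x // m ≠ 1} = Nat.card (S.M x) - 1 := by
      rw [Nat.card_eq_fintype_card, Fintype.card_subtype_compl, Fintype.card_subtype_eq,
        Nat.card_eq_fintype_card]
    have : 0 < Nat.card (S.M x) := Nat.card_pos
    omega
  have h3 := card_mul_index (S.M x)
  rw [← h2, add_mul, one_mul, mul_comm] at h3
  omega

theorem exists_normal [Nontrivial Q] : ∃ w : Q, w ≠ 1 ∧ (S.M w).Normal := by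
  by_contra! h
  obtain ⟨x, hx⟩ := exists_ne (1 : Q)
  have hidx : ∀ w : Q, w ≠ 1 → 2 * (S.M w).index ≤ Nat.card Q := fun w hw => by
    rw [← card_mul_index (S.M w)]
    refine Nat.mul_le_mul_right _ ?_
    refine Finite.one_lt_card_iff_nontrivial.mpr ?_
    exact ⟨⟨w, S.self w⟩, 1, fun e => hw (congrArg Subtype.val e)⟩
  have hsub : ∀ w, S.classSet w ⊆ {v : Q | v ≠ 1} := fun w v hv => hv.1
  have hone : ({v : Q | v ≠ 1}).ncard + 1 = Nat.card Q := by
    rw [show {v : Q | v ≠ 1} = ({1} : Set Q)ᶜ from rfl,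
      ← Set.ncard_add_ncard_compl ({1} : Set Q), Set.ncard_singleton, add_comm]
  have h1 := S.card_classSet hx (h x hx)
  have hi1 : 2 ≤ (S.M x).index := one_lt_index_of_ne_top (S.coatom x hx).1
  by_cases hall : ∀ w : Q, w ≠ 1 → w ∈ S.classSet x
  · have he : S.classSet x = {v : Q | v ≠ 1} :=
      Set.Subset.antisymm (hsub x) fun v hv => hall v hv
    rw [Nat.card_coe_set_eq, he] at h1
    omega
  · push Not at hall
    obtain ⟨w, hw, hwx⟩ := hall
    have h2 := S.card_classSet hw (h w hw)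
    have hd : Disjoint (S.classSet x) (S.classSet w) := by
      rw [Set.disjoint_left]
      rintro v ⟨hv1, g, hg⟩ ⟨-, g', hg'⟩
      refine hwx ⟨hw, g'⁻¹ * g, ?_⟩
      have h3 := congrArg (Subgroup.map (MulAut.conj g'⁻¹).toMonoidHom) (hg'.symm.trans hg)
      rw [map_map, map_map] at h3
      have e1 : ∀ a b : Q, (MulAut.conj a).toMonoidHom.comp (MulAut.conj b).toMonoidHom =
          (MulAut.conj (a * b)).toMonoidHom := fun a b => by ext; simp [mul_assoc]
      rw [e1, e1, inv_mul_cancel, map_one] at h3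
      rw [← h3]
      exact (map_id _).symm
    have h4 : (S.classSet x).ncard + (S.classSet w).ncard ≤ ({v : Q | v ≠ 1}).ncard := by
      rw [← Set.ncard_union_eq hd]
      exact Set.ncard_le_ncard (Set.union_subset (hsub x) (hsub w))
    rw [Nat.card_coe_set_eq] at h1 h2
    have := hidx x hx
    have := hidx w hw
    omega

theorem structure_of_centSys (S : CentSys Q) [Nontrivial Q] :
    (∃ p : ℕ, p.Prime ∧ Cfsg.IsElementaryAbelian p (⊤ : Subgroup Q)) ∨
    (¬ IsMulCommutative Q ∧ (∀ H : Subgroup Q, H ≠ ⊤ → IsMulCommutative ↥H) ∧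
      ∃ p q a : ℕ, p.Prime ∧ q.Prime ∧ p ≠ q ∧ Nat.card Q = p ^ a * q ∧
        ∀ P : Subgroup Q, Nat.card ↥P = p ^ a → P.Normal) := by
  obtain ⟨w, hw, hwn⟩ := S.exists_normal
  by_cases hall : ∀ z : Q, z ≠ 1 → (S.M z).Normal
  · left
    have hcomm : ∀ a b : Q, Commute a b := by
      intro a b
      by_cases ha : a = 1
      · simp [ha]
      by_cases hb : b = 1
      · simp [hb]
      exact S.commute_of_normal ha hb (hall a ha) (hall b hb)
    obtain ⟨g, hg⟩ : ∃ g, g ∉ S.M w := by
      by_contra! hh; exact (S.coatom w hw).1 ((eq_top_iff' _).mpr hh)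
    have hg1 : g ≠ 1 := fun e => hg (e ▸ one_mem _)
    have hne : S.M w ≠ S.M g := fun e => hg (e ▸ S.self g)
    obtain ⟨hp, hgo⟩ := S.orderOf_eq_prime hw hg1 (hcomm w g) hne
    refine ⟨orderOf w, hp, ⟨⟨fun a b => Subtype.ext (hcomm a b)⟩⟩, fun z _ => ?_⟩
    by_cases hz : (z : Q) = 1
    · simp [hz]
    by_cases hzw : S.M w = S.M z
    · obtain ⟨-, h2⟩ := S.orderOf_eq_prime hg1 hz (hcomm g z) (fun e => hne (hzw.trans e.symm))
      rw [← hgo, ← h2]; exact pow_orderOf_eq_one _
    · obtain ⟨-, h2⟩ := S.orderOf_eq_prime hw hz (hcomm w z) hzw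
      rw [← h2]; exact pow_orderOf_eq_one _
  push Not at hall
  obtain ⟨a, ha, han⟩ := hall
  right
  have hnormal : ∀ u ∈ S.M w, u ≠ 1 → (S.M u).Normal := by
    intro u hu hu1
    by_contra hn
    have h := S.same_of_not_normal hu1 hn w (S.symm w u hw hu1 hu) hw
    exact hn (h ▸ hwn)
  haveI := hwn
  set A := S.M a with hA
  have hdisj : ∀ u ∈ A, u ∈ S.M w → u = 1 := by
    intro u hu hu'
    by_contra hu1
    exact han (hA ▸ S.same_of_not_normal ha han u hu hu1 ▸ hnormal u hu' hu1)
  have hMw : ∀ z ∈ S.M w, ∀ z' ∈ S.M w, Commute z z' := by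
    intro z hz z' hz'
    by_cases h1 : z = 1
    · simp [h1]
    by_cases h2 : z' = 1
    · simp [h2]
    exact S.commute_of_normal h1 h2 (hnormal z hz h1) (hnormal z' hz' h2)
  have hgen : ∀ h : Q, h ∉ S.M w → zpowers h ⊔ S.M w = ⊤ := fun h hh =>
    ((S.coatom w hw).le_iff.mp (le_sup_right (a := zpowers h) (b := S.M w))).resolve_right
      fun e => hh (e ▸ mem_sup_left (mem_zpowers h))
  have haw : a ∉ S.M w := fun h => ha (hdisj a (S.self a) h)
  -- the index of `M w` is prime
  have hao : (orderOf a).Prime ∧ (S.M w).index = orderOf a := by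
    have hA' : ∀ h ∈ A, h ≠ 1 → zpowers h = A := by
      intro h hh hh1
      refine le_antisymm (zpowers_le.mpr hh) fun z hz => ?_
      obtain ⟨b, hb, c, hc, rfl⟩ := (mem_sup_of_normal_right (t := S.M w)).mp
        ((hgen h (fun e => hh1 (hdisj h hh e))) ▸ mem_top z)
      have hbA : b ∈ A := zpowers_le.mpr hh hb
      have : c = 1 := hdisj c (by simpa using mul_mem (inv_mem hbA) hz) hc
      simpa [this] using hb
    have hn1 : orderOf a ≠ 1 := fun h => ha (orderOf_eq_one_iff.mp h)
    obtain ⟨r, hr, hrd⟩ := Nat.exists_prime_and_dvd hn1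
    have hd : orderOf a / r ≠ 0 :=
      (Nat.div_pos (Nat.le_of_dvd (orderOf_pos a) hrd) hr.pos).ne'
    have ho : orderOf (a ^ (orderOf a / r)) = r := by
      rw [orderOf_pow_of_dvd hd (Nat.div_dvd_of_dvd hrd), Nat.div_div_self hrd (orderOf_pos a).ne']
    have h1 : a ^ (orderOf a / r) ≠ 1 := fun h => by
      rw [h, orderOf_one] at ho; exact hr.ne_one ho.symm
    have h2 : orderOf a = r := by
      have e := (hA' a (S.self a) ha).trans (hA' _ (pow_mem (S.self a) _) h1).symm
      calc orderOf a = Nat.card (zpowers a) := (Nat.card_zpowers a).symm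
        _ = Nat.card (zpowers (a ^ (orderOf a / r))) := by rw [e]
        _ = r := by rw [Nat.card_zpowers, ho]
    refine ⟨h2 ▸ hr, ?_⟩
    rw [← Nat.card_zpowers a, hA' a (S.self a) ha]
    refine (IsComplement'.index_eq_card (isComplement'_of_disjoint_and_mul_eq_univ ?_ ?_))
    · rw [disjoint_def]; exact fun hx1 hx2 => hdisj _ hx1 hx2
    · rw [← mul_normal, ← hA' a (S.self a) ha, hgen a haw, coe_top]
  obtain ⟨hq, hidx⟩ := hao
  -- `M w` is minimal normal
  have hmin : ∀ L : Subgroup Q, L.Normal → L ≤ S.M w → L ≠ ⊥ → L = S.M w := by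
    intro L hL hLw hL1
    haveI := hL
    have hLA : ¬ L ≤ A := fun h => hL1 ((eq_bot_iff_forall _).mpr fun l hl => hdisj l (h hl) (hLw hl))
    have htop : A ⊔ L = ⊤ := ((S.coatom a ha).le_iff.mp (le_sup_left (a := A) (b := L))).resolve_right
      fun e => hLA (le_sup_right.trans e.le)
    refine le_antisymm hLw fun z hz => ?_
    obtain ⟨b, hb, c, hc, rfl⟩ := (mem_sup_of_normal_right (t := L)).mp (htop ▸ mem_top z)
    have : b = 1 := hdisj b hb (by simpa using mul_mem hz (inv_mem (hLw hc)))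
    simpa [this] using hc
  have hw1 : S.M w ≠ ⊥ := fun h => hw (mem_bot.mp (h ▸ S.self w))
  obtain ⟨p, hp, hpd⟩ := Nat.exists_prime_and_dvd (fun h => hw1 (card_eq_one.mp h))
  haveI := Fact.mk hp
  let L : Subgroup Q :=
    { carrier := {z | z ∈ S.M w ∧ z ^ p = 1}
      one_mem' := ⟨one_mem _, one_pow _⟩
      mul_mem' := fun {z z'} hz hz' => ⟨mul_mem hz.1 hz'.1, by
        rw [(hMw z hz.1 z' hz'.1).mul_pow, hz.2, hz'.2, one_mul]⟩
      inv_mem' := fun {z} hz => ⟨inv_mem hz.1, by rw [inv_pow, hz.2, inv_one]⟩ }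
  have hLn : L.Normal := ⟨fun z hz g => ⟨hwn.conj_mem z hz.1 g, by
    rw [conj_pow, hz.2, mul_one, mul_inv_cancel]⟩⟩
  have hLeq : L = S.M w := hmin L hLn (fun z hz => hz.1) (by
    obtain ⟨z, hz⟩ := exists_prime_orderOf_dvd_card' p hpd
    intro hb
    have : (z : Q) ∈ L := ⟨z.2, by rw [← hz, ← orderOf_coe, pow_orderOf_eq_one]⟩
    rw [hb, mem_bot] at this
    rw [show z = 1 from Subtype.ext this, orderOf_one] at hz
    exact hp.ne_one hz.symm)
  have hwp : IsPGroup p (S.M w) := fun z => ⟨1, by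
    have : (z : Q) ∈ L := (SetLike.ext_iff.mp hLeq _).mpr z.2
    rw [pow_one]; exact Subtype.ext this.2⟩
  obtain ⟨n, hn⟩ := IsPGroup.iff_card.mp hwp
  have hcard : Nat.card Q = p ^ n * orderOf a := by
    rw [← card_mul_index (S.M w), hn, hidx]
  have hpq : p ≠ orderOf a := by
    intro h
    refine han (normal_of_coatom_pGroup (p := p) (IsPGroup.of_card (n := n + 1) ?_) (S.coatom a ha))
    rw [hcard, ← h, pow_succ]
  -- elements outside `M w`
  have hout : ∀ h : Q, h ∉ S.M w → ¬ (S.M h).Normal := by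
    intro h hh hn'
    have hh1 : h ≠ 1 := fun e => hh (e ▸ one_mem _)
    have hne : S.M w ≠ S.M h := fun e => hh (e ▸ S.self h)
    obtain ⟨-, ho⟩ := S.orderOf_eq_prime hw hh1 (S.commute_of_normal hw hh1 hwn hn') hne
    have hwo : orderOf w = p := by
      obtain ⟨k, hk⟩ := IsPGroup.iff_orderOf.mp hwp ⟨w, S.self w⟩
      rw [orderOf_mk] at hk
      exact _root_.orderOf_eq_prime (by
        have : w ∈ L := (SetLike.ext_iff.mp hLeq _).mpr (S.self w)
        exact this.2) hw
    have hdvd : orderOf (QuotientGroup.mk' (S.M w) h) ∣ (S.M w).index := orderOf_dvd_natCard _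
    have h1 : orderOf (QuotientGroup.mk' (S.M w) h) = 1 := Nat.eq_one_of_dvd_coprimes
      ((Nat.coprime_primes hp hq).mpr hpq) (hwo ▸ ho ▸ orderOf_map_dvd (QuotientGroup.mk' (S.M w)) h)
      (hidx ▸ hdvd)
    exact hh ((QuotientGroup.eq_one_iff h).mp (orderOf_eq_one_iff.mp h1))
  refine ⟨fun hab => han ⟨fun z hz g => ?_⟩, fun H hH => ?_, p, orderOf a, n, hp, hq, hpq, hcard, ?_⟩
  · rw [hab.is_comm.comm g z, mul_inv_cancel_right]; exact hz
  · by_cases hHw : H ≤ S.M w
    · exact ⟨⟨fun z z' => Subtype.ext (hMw _ (hHw z.2) _ (hHw z'.2))⟩⟩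
    · obtain ⟨h, hh, hhw⟩ := Set.not_subset.mp hHw
      have hh1 : h ≠ 1 := fun e => hhw (e ▸ one_mem _)
      have hsame := S.same_of_not_normal hh1 (hout h hhw)
      have hzp : zpowers h = S.M h := by
        refine le_antisymm (zpowers_le.mpr (S.self h)) fun z hz => ?_
        obtain ⟨b, hb, c, hc, rfl⟩ :=
          (mem_sup_of_normal_right (t := S.M w)).mp ((hgen h hhw) ▸ mem_top z)
        have hcM : c ∈ S.M h := by simpa using mul_mem (inv_mem (zpowers_le.mpr (S.self h) hb)) hz
        have : c = 1 := by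
          by_contra hc1
          exact hout h hhw (hsame c hcM hc1 ▸ hnormal c hc hc1)
        simpa [this] using hb
      have hle : S.M h ≤ H := hzp ▸ zpowers_le.mpr hh
      have heq : H = S.M h := ((S.coatom h hh1).le_iff.mp hle).resolve_left hH
      exact ⟨⟨fun z z' => Subtype.ext (by
        by_cases h1 : (z : Q) = 1
        · simp [h1]
        by_cases h2 : (z' : Q) = 1
        · simp [h2]
        exact (S.commute_of_same h1 h2 ((hsame _ (heq ▸ z.2) h1).trans (hsame _ (heq ▸ z'.2) h2).symm)).eq)⟩⟩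
  · intro P hP
    have hPp : IsPGroup p P := IsPGroup.of_card hP
    have hPle : P ≤ S.M w := by
      intro z hz
      obtain ⟨k, hk⟩ := IsPGroup.iff_orderOf.mp hPp ⟨z, hz⟩
      rw [orderOf_mk] at hk
      have h1 : orderOf (QuotientGroup.mk' (S.M w) z) = 1 := Nat.eq_one_of_dvd_coprimes
        (Nat.Coprime.pow_left k ((Nat.coprime_primes hp hq).mpr hpq))
        (hk ▸ orderOf_map_dvd (QuotientGroup.mk' (S.M w)) z) (hidx ▸ orderOf_dvd_natCard _)
      exact (QuotientGroup.eq_one_iff z).mp (orderOf_eq_one_iff.mp h1)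
    rw [eq_of_le_of_card_ge hPle (by rw [hP, hn])]
    exact hwn

end CentSys

end Cfsg.Agent.Classes23
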