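import Mathlib

/-!
# The eigenspace dimension bound for automorphisms of projective abelian actions
-/

set_option autoImplicit false
set_option linter.style.haveILetI false
set_option linter.unusedSectionVars false

namespace Cfsg.Agent.Classes23

open Subgroup
open scoped Classical commutatorElement

universe u v w

variable {k : Type u} [Field k] {W : Type v} [AddCommGroup W] [Module k W]

theorem smul_one_injective [Nontrivial W] {a b : k} (h : a • (1 : Module.End k W) = b • 1) :
    a = b := smul_left_injective k (one_ne_zero (α := Module.End k W)) h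

/-- `∑ mᵢ² ≤ dim C(x)` and `w ≤ ∑ mᵢ` give `w² ≤ (r-1) dim C(x)`. -/
theorem sq_finrank_le [IsAlgClosed k] [FiniteDimensional k W] {r : ℕ} (hr : r.Prime)
    (hrk : (r : k) ≠ 0) (x : Module.End k W) (hxr : x ^ r = 1)
    (hfix : ∀ w, x w = w → w = 0) (C : Submodule k (Module.End k W))
    (hC : ∀ a, a * x = x * a → a ∈ C) :
    Module.finrank k W ^ 2 ≤ (r - 1) * Module.finrank k C := by
  haveI : NeZero (r : k) := ⟨hrk⟩
  obtain ⟨ζ, hζ0⟩ := IsAlgClosed.exists_root (Polynomial.cyclotomic r k)
    (by rw [Polynomial.degree_cyclotomic]; exact_mod_cast (Nat.totient_pos.mpr hr.pos).ne')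
  have hζ : IsPrimitiveRoot ζ r := Polynomial.isRoot_cyclotomic_iff.mp hζ0
  have hζ0' : ζ ≠ 0 := hζ.ne_zero hr.ne_zero
  let P : ℕ → Module.End k W := fun j =>
    (r : k)⁻¹ • ∑ i ∈ Finset.range r, ((ζ⁻¹) ^ (i * j)) • x ^ i
  have hxP : ∀ j, x * P j = ζ ^ j • P j := by
    intro j
    have e : ∀ i, ζ ^ j • ((ζ⁻¹) ^ ((i + 1) * j) • x ^ (i + 1)) = ζ⁻¹ ^ (i * j) • (x * x ^ i) := by
      intro i
      rw [smul_smul, add_mul, one_mul, pow_add, mul_left_comm, ← mul_pow, mul_inv_cancel₀ hζ0',
        one_pow, mul_one, pow_succ']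
    simp only [P, mul_smul_comm, Finset.mul_sum, Finset.smul_sum, smul_comm (ζ ^ j) ((r : k)⁻¹)]
    rw [← Finset.smul_sum, ← Finset.smul_sum]
    congr 1
    simp only [← e]
    rw [← Finset.smul_sum, ← Finset.smul_sum]
    congr 1
    have h1 := Finset.sum_range_succ' (fun i => (ζ⁻¹) ^ (i * j) • x ^ i) r
    rw [Finset.sum_range_succ] at h1
    simp only [zero_mul, pow_zero, hxr, pow_mul, inv_pow, hζ.pow_eq_one, inv_one, one_pow] at h1
    simp only [pow_mul, inv_pow]
    exact (add_right_cancel h1).symm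
  have hsum : ∑ j ∈ Finset.range r, P j = 1 := by
    simp only [P, ← Finset.smul_sum]
    rw [Finset.sum_comm, Finset.sum_eq_single 0]
    · simp [Finset.sum_const, ← Nat.cast_smul_eq_nsmul k, smul_smul, inv_mul_cancel₀ hrk]
    · intro i hi hi0
      rw [← Finset.sum_smul]
      have : ∑ j ∈ Finset.range r, (ζ⁻¹) ^ (i * j) = 0 := by
        simp only [pow_mul]
        have hp : IsPrimitiveRoot ((ζ⁻¹) ^ i) r :=
          hζ.inv.pow_of_coprime i (Nat.Coprime.symm ((hr.coprime_iff_not_dvd).mpr fun h =>
            absurd (Nat.le_of_dvd (Nat.pos_of_ne_zero hi0) h) (not_le.mpr (Finset.mem_range.mp hi))))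
        exact hp.geom_sum_eq_zero hr.one_lt
      rw [this, zero_smul]
    · simp [hr.ne_zero]
  have hP0 : P 0 = 0 := by
    refine LinearMap.ext fun w => hfix _ ?_
    have := LinearMap.congr_fun (hxP 0) w
    simpa using this
  let J := {j : ℕ // j ∈ (Finset.range r).erase 0}
  let Wj : J → Submodule k W := fun j => LinearMap.range (P j.1)
  have heig : ∀ (j : J) (w : W), w ∈ Wj j → x w = ζ ^ j.1 • w := by
    rintro j _ ⟨w, rfl⟩
    exact LinearMap.congr_fun (hxP j.1) w
  have hcomm : ∀ j, Commute x (P j) := fun j =>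
    Commute.smul_right (Commute.sum_right _ _ _ fun i _ => ((Commute.refl x).pow_right i).smul_right _) _
  -- the sum map is surjective
  let sumMap : ((j : J) → Wj j) →ₗ[k] W := ∑ j : J, (Wj j).subtype ∘ₗ LinearMap.proj j
  have hsurj : Function.Surjective sumMap := by
    intro w
    refine ⟨fun j => ⟨P j.1 w, ⟨w, rfl⟩⟩, ?_⟩
    have h1 := LinearMap.congr_fun hsum w
    rw [← Finset.sum_erase_add _ _ (Finset.mem_range.mpr hr.pos), hP0, add_zero,
      LinearMap.sum_apply, Module.End.one_apply] at h1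
    simp only [sumMap, LinearMap.sum_apply, LinearMap.comp_apply, LinearMap.proj_apply,
      Submodule.subtype_apply]
    refine Eq.trans ?_ h1
    exact Finset.sum_subtype _ (fun j => Iff.rfl) (fun j => P j w) |>.symm
  have hw : Module.finrank k W ≤ ∑ j : J, Module.finrank k (Wj j) := by
    rw [← Module.finrank_pi_fintype]
    exact LinearMap.finrank_le_finrank_of_surjective hsurj |>.trans le_rfl
  -- the block map into the centralizer
  let ev : J → (((j : J) → (Wj j →ₗ[k] Wj j)) →ₗ[k] Module.End k W) := fun j =>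
    { toFun := fun a => (Wj j).subtype ∘ₗ (a j) ∘ₗ LinearMap.rangeRestrict (P j.1)
      map_add' := fun a b => by ext; simp
      map_smul' := fun c a => by ext; simp }
  let Φ : ((j : J) → (Wj j →ₗ[k] Wj j)) →ₗ[k] Module.End k W := ∑ j, ev j
  have hPfix : ∀ (i j : J) (w : W), w ∈ Wj i → P j.1 w = if i = j then w else 0 := by
    intro i j w hw
    have hx : ∀ n : ℕ, (x ^ n) w = (ζ ^ i.1) ^ n • w := by
      intro n
      induction n with
      | zero => simp
      | succ n ih =>
        rw [pow_succ', Module.End.mul_apply, ih, map_smul, heig i w hw, smul_smul, pow_succ]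
    simp only [P, LinearMap.smul_apply, LinearMap.sum_apply, hx, smul_smul, ← Finset.sum_smul]
    have hir := Finset.mem_range.mp (Finset.mem_of_mem_erase i.2)
    have hjr := Finset.mem_range.mp (Finset.mem_of_mem_erase j.2)
    have hterm : ∀ n : ℕ, ζ⁻¹ ^ (n * j.1) * (ζ ^ i.1) ^ n = ((ζ⁻¹) ^ j.1 * ζ ^ i.1) ^ n := fun n => by
      rw [mul_pow, ← pow_mul, ← pow_mul, mul_comm n j.1]
    simp only [hterm]
    by_cases hij : i = j
    · subst hij
      have h1 : (ζ⁻¹) ^ i.1 * ζ ^ i.1 = 1 := by rw [← mul_pow, inv_mul_cancel₀ hζ0', one_pow]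
      simp [h1, inv_mul_cancel₀ hrk, -inv_pow]
    · rw [if_neg hij]
      have hne : (ζ⁻¹) ^ j.1 * ζ ^ i.1 ≠ 1 := fun e => hij (Subtype.ext (hζ.pow_inj hir hjr (by
        rw [inv_pow, inv_mul_eq_one₀ (pow_ne_zero _ hζ0')] at e
        exact e.symm)))
      have hpow : ((ζ⁻¹) ^ j.1 * ζ ^ i.1) ^ r = 1 := by
        rw [mul_pow, ← pow_mul, ← pow_mul, mul_comm j.1, mul_comm i.1, pow_mul, pow_mul, inv_pow,
          hζ.pow_eq_one, inv_one, one_pow, one_pow, one_mul]
      rw [geom_sum_eq hne, hpow, sub_self, zero_div, mul_zero, zero_smul]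
  have hΦmem : ∀ a, Φ a ∈ C := by
    intro a
    refine hC _ ?_
    simp only [Φ, LinearMap.sum_apply, Finset.sum_mul, Finset.mul_sum]
    refine Finset.sum_congr rfl fun j _ => LinearMap.ext fun w => ?_
    have h1 : (LinearMap.rangeRestrict (P j.1)) (x w) =
        ζ ^ j.1 • (LinearMap.rangeRestrict (P j.1)) w := Subtype.ext (by
      show P j.1 (x w) = ζ ^ j.1 • P j.1 w
      rw [← Module.End.mul_apply, ← (hcomm j.1).eq]
      exact LinearMap.congr_fun (hxP j.1) w)
    simp only [ev, LinearMap.coe_mk, AddHom.coe_mk, Module.End.mul_apply, LinearMap.comp_apply, h1,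
      map_smul, Submodule.subtype_apply]
    rw [heig j _ (a j _).2]
  have hΦinj : Function.Injective Φ := by
    intro a b e
    funext i
    refine LinearMap.ext fun ⟨w, hw⟩ => Subtype.ext ?_
    have h1 := LinearMap.congr_fun e w
    have key : ∀ a : (j : J) → (Wj j →ₗ[k] Wj j), Φ a w = (a i ⟨w, hw⟩ : W) := by
      intro a
      simp only [Φ, LinearMap.sum_apply]
      rw [Finset.sum_eq_single i]
      · show (a i (LinearMap.rangeRestrict (P i.1) w) : W) = _
        congr 2
        exact Subtype.ext (by simpa using hPfix i i w hw)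
      · intro j _ hj
        show (a j (LinearMap.rangeRestrict (P j.1) w) : W) = 0
        rw [show LinearMap.rangeRestrict (P j.1) w = 0 from
          Subtype.ext (by simpa [Ne.symm hj] using hPfix i j w hw), map_zero, ZeroMemClass.coe_zero]
      · simp
    rwa [key, key] at h1
  have hdim : ∑ j : J, Module.finrank k (Wj j) ^ 2 ≤ Module.finrank k C := by
    have h1 := LinearMap.finrank_le_finrank_of_injective (f := Φ.codRestrict C hΦmem)
      (fun a b e => hΦinj (congrArg Subtype.val e))
    rwa [Module.finrank_pi_fintype, Finset.sum_congr rfl fun j _ => by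
      rw [Module.finrank_linearMap, ← pow_two]] at h1
  calc Module.finrank k W ^ 2 ≤ (∑ j : J, Module.finrank k (Wj j)) ^ 2 := Nat.pow_le_pow_left hw 2
    _ ≤ Fintype.card J * ∑ j : J, Module.finrank k (Wj j) ^ 2 := by
        simpa using sq_sum_le_card_mul_sum_sq (s := (Finset.univ : Finset J))
          (f := fun j => Module.finrank k (Wj j))
    _ ≤ (r - 1) * Module.finrank k C := by
        refine Nat.mul_le_mul (le_of_eq ?_) hdim
        simp [J, hr.pos]

/-- Orbits of a permutation of prime order with a single fixed point. -/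
theorem exists_orbit_reps {ι : Type*} [Fintype ι] {r : ℕ} (hr : r.Prime) (σ : Equiv.Perm ι)
    (hσ : σ ^ r = 1) (i₀ : ι) (h₀ : σ i₀ = i₀) (huniq : ∀ i, σ i = i → i = i₀) :
    ∃ S : Finset ι, (∀ i, ∃ s ∈ S, ∃ n : ℕ, (σ ^ n) s = i) ∧
      r * S.card + 1 ≤ Fintype.card ι + r ∧ r ∣ Fintype.card ι - 1 := by
  let H := zpowers σ
  haveI := Fintype.ofFinite (MulAction.orbitRel.Quotient H ι)
  let S : Finset ι := Finset.univ.image fun o : MulAction.orbitRel.Quotient H ι => o.out
  have hcard : S.card = Fintype.card (MulAction.orbitRel.Quotient H ι) :=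
    Finset.card_image_of_injective _ fun a b e => by
      rw [← Quotient.out_eq a, ← Quotient.out_eq b]; exact congrArg _ e
  have horb : ∀ i, Nat.card (MulAction.orbit H i) = if i = i₀ then 1 else r := by
    intro i
    have hdvd : Nat.card (MulAction.orbit H i) ∣ r := by
      rw [Nat.card_congr (MulAction.orbitEquivQuotientStabilizer H i)]
      refine dvd_trans (Subgroup.card_quotient_dvd_card _) ?_
      rw [Nat.card_zpowers]
      exact orderOf_dvd_of_pow_eq_one hσ
    rcases (Nat.dvd_prime hr).mp hdvd with h | h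
    · have hfix : σ i = i := by
        haveI := (Nat.card_eq_one_iff_unique.mp h).1
        exact congrArg Subtype.val (Subsingleton.elim
          (⟨σ i, ⟨⟨σ, mem_zpowers σ⟩, rfl⟩⟩ : MulAction.orbit H i) ⟨i, MulAction.mem_orbit_self i⟩)
      rw [if_pos (huniq i hfix), h]
    · rw [if_neg ?_, h]
      rintro rfl
      have hsub : MulAction.orbit H i = {i} := by
        ext j
        refine ⟨?_, fun hj => by rw [Set.mem_singleton_iff] at hj; subst hj; exact MulAction.mem_orbit_self _⟩
        rintro ⟨⟨_, n, rfl⟩, rfl⟩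
        show (σ ^ n) i = i
        exact Equiv.Perm.zpow_apply_eq_self_of_apply_eq_self h₀ n
      rw [hsub] at h
      simp at h
      exact hr.ne_one h.symm
  have hsum : Fintype.card ι =
      ∑ o : MulAction.orbitRel.Quotient H ι, if o.out = i₀ then 1 else r := by
    rw [Fintype.card_congr (MulAction.selfEquivSigmaOrbits H ι), Fintype.card_sigma]
    refine Finset.sum_congr rfl fun o _ => ?_
    rw [← horb, Nat.card_eq_fintype_card]
  set o₀ : MulAction.orbitRel.Quotient H ι := Quotient.mk'' i₀
  have ho₀ : ∀ o : MulAction.orbitRel.Quotient H ι, o.out = i₀ ↔ o = o₀ := by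
    intro o
    refine ⟨fun h => by rw [← Quotient.out_eq o, h], fun h => ?_⟩
    have hm : o.out ∈ MulAction.orbit H i₀ := by
      have : (Quotient.mk'' o.out : MulAction.orbitRel.Quotient H ι) = Quotient.mk'' i₀ := by
        rw [Quotient.out_eq' o, h]
      exact Quotient.exact' this
    obtain ⟨⟨_, n, rfl⟩, he⟩ := hm
    rw [← he]
    exact Equiv.Perm.zpow_apply_eq_self_of_apply_eq_self h₀ n
  have htot : Fintype.card ι + r = r * S.card + 1 := by
    rw [hsum, ← Finset.add_sum_erase _ _ (Finset.mem_univ o₀), if_pos ((ho₀ o₀).mpr rfl),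
      Finset.sum_congr rfl (fun o ho => if_neg fun h => Finset.ne_of_mem_erase ho ((ho₀ o).mp h)),
      Finset.sum_const, smul_eq_mul, Finset.card_erase_of_mem (Finset.mem_univ _),
      Finset.card_univ, hcard]
    have hpos : 0 < Fintype.card (MulAction.orbitRel.Quotient H ι) := Fintype.card_pos_iff.mpr ⟨o₀⟩
    obtain ⟨m, hm⟩ : ∃ m, Fintype.card (MulAction.orbitRel.Quotient H ι) = m + 1 :=
      ⟨_, (Nat.succ_pred_eq_of_pos hpos).symm⟩
    rw [hm]
    simp only [Nat.add_sub_cancel]
    ring
  refine ⟨S, fun i => ?_, htot.ge, ⟨S.card - 1, ?_⟩⟩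
  · refine ⟨(Quotient.mk'' i : MulAction.orbitRel.Quotient H ι).out, Finset.mem_image_of_mem _
      (Finset.mem_univ _), ?_⟩
    have hm : i ∈ MulAction.orbit H (Quotient.mk'' i : MulAction.orbitRel.Quotient H ι).out :=
      MulAction.mem_orbit_symm.mp (MulAction.orbitRel_apply.mp
        (Quotient.exact' (Quotient.out_eq' (Quotient.mk'' i : MulAction.orbitRel.Quotient H ι))))
    obtain ⟨⟨g, hg⟩, he⟩ := hm
    obtain ⟨n, hn⟩ := Submonoid.mem_powers_iff _ _ |>.mp (mem_powers_iff_mem_zpowers.mpr hg)
    exact ⟨n, by rw [hn]; exact he⟩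
  · rw [Nat.mul_sub, mul_one]; omega

section Core

variable {Q : Type w} [Group Q] [Finite Q]

/-- The data of a projective abelian action with a fixed-point-free automorphism. -/
theorem bound_of_fpf [IsAlgClosed k] [FiniteDimensional k W] [Nontrivial W] {r : ℕ} (hr : r.Prime)
    (hrk : (r : k) ≠ 0) (hQk : (Nat.card Q : k) ≠ 0) (ρ : Q →* Module.End k W) (σ : Q ≃* Q)
    (x : Module.End k W) (hxr : x ^ r = 1) (hfix : ∀ w, x w = w → w = 0)
    (hσ : ∀ v, x * ρ v = ρ (σ v) * x) (hσr : ∀ v, σ^[r] v = v)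
    (R : Subgroup Q) (hRσ : ∀ v ∈ R, σ v ∈ R) (hR : ∀ v ∈ R, ∃ c : k, ρ v = c • 1)
    (hcomm : ∀ a b : Q, ⁅a, b⁆ ∈ R) (hnd : ∀ v, v ∉ R → ∃ b, ρ ⁅v, b⁆ ≠ 1)
    (hfpf : ∀ v, v⁻¹ * σ v ∈ R → v ∈ R) :
    ∃ M : ℕ, R.index = M ^ 2 ∧ M ≤ r - 1 ∧ r ∣ R.index - 1 ∧ M ∣ Nat.card Q := by
  haveI : R.Normal := ⟨fun v hv g => by
    have := R.mul_mem (hcomm g v) hv
    simpa [commutatorElement_def, mul_assoc] using this⟩
  haveI : NeZero (Nat.card Q : k) := ⟨hQk⟩
  haveI := Fintype.ofFinite (Q ⧸ R)
  have hinv : ∀ v, ρ v * ρ v⁻¹ = 1 := fun v => by rw [← map_mul, mul_inv_cancel, map_one]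
  have hinv' : ∀ v, ρ v⁻¹ * ρ v = 1 := fun v => by rw [← map_mul, inv_mul_cancel, map_one]
  have hχex : ∀ v b, ∃ c : k, ρ v * ρ b * ρ v⁻¹ * ρ b⁻¹ = c • 1 := by
    intro v b
    obtain ⟨c, hc⟩ := hR _ (hcomm v b)
    exact ⟨c, by rw [← map_mul, ← map_mul, ← map_mul, ← commutatorElement_def, hc]⟩
  choose χ hχ' using hχex
  have hχ : ∀ v b, ρ v * ρ b = χ v b • (ρ b * ρ v) := by
    intro v b
    have h := congrArg (· * (ρ b * ρ v)) (hχ' v b)
    simp only [smul_mul_assoc, one_mul] at h
    rw [← h, mul_assoc (ρ v * ρ b * ρ v⁻¹), ← mul_assoc (ρ b⁻¹), hinv', one_mul,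
      mul_assoc, hinv', mul_one]
  have hinvb : ∀ v b (c : k), ρ v * ρ b = c • (ρ b * ρ v) → c = χ v b := by
    intro v b c h
    refine smul_one_injective (W := W) ?_
    rw [← hχ' v b, h, smul_mul_assoc, smul_mul_assoc, mul_assoc (ρ b), hinv, mul_one, hinv]
  have hχ1 : ∀ v, v ∈ R → ∀ b, χ v b = 1 := by
    intro v hv b
    obtain ⟨c, hc⟩ := hR v hv
    exact (hinvb v b 1 (by rw [hc, one_smul, smul_mul_assoc, one_mul, mul_smul_comm, mul_one])).symm
  have hχmul : ∀ v v' b, χ (v * v') b = χ v b * χ v' b := fun v v' b =>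
    (hinvb _ _ _ (by
      rw [map_mul, mul_assoc, hχ v' b, mul_smul_comm, ← mul_assoc, hχ v b, smul_mul_assoc,
        smul_smul, mul_assoc, mul_comm (χ v b)])).symm
  have hχmul' : ∀ v b b', χ v (b * b') = χ v b * χ v b' := fun v b b' =>
    (hinvb _ _ _ (by
      rw [map_mul, ← mul_assoc, hχ v b, smul_mul_assoc, mul_assoc, hχ v b', mul_smul_comm,
        smul_smul, mul_assoc])).symm
  have hχne : ∀ v b, χ v b ≠ 0 := by
    intro v b h
    have h1 := hχ' v b
    rw [h, zero_smul, ← map_mul, ← map_mul, ← map_mul] at h1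
    have h2 := hinv (v * b * v⁻¹ * b⁻¹)
    rw [h1, zero_mul] at h2
    exact one_ne_zero h2.symm
  have hχone : ∀ v, χ v 1 = 1 := fun v => (hinvb v 1 1 (by rw [map_one, mul_one, one_mul, one_smul])).symm
  have hχone' : ∀ b, χ 1 b = 1 := fun b => hχ1 1 (one_mem R) b
  have hχswap : ∀ v b, χ v b * χ b v = 1 := by
    intro v b
    refine smul_one_injective (W := W) ?_
    have h1 := hχ v b
    rw [hχ b v, smul_smul] at h1
    have h2 := congrArg (· * (ρ b⁻¹ * ρ v⁻¹)) h1
    simp only [smul_mul_assoc] at h2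
    rw [mul_assoc (ρ v), ← mul_assoc (ρ b) (ρ b⁻¹), hinv, one_mul, hinv] at h2
    rw [one_smul]; exact h2.symm
  have hχnd : ∀ v, v ∉ R → ∃ b, χ v b ≠ 1 := by
    intro v hv
    obtain ⟨b, hb⟩ := hnd v hv
    refine ⟨b, fun h => hb ?_⟩
    rw [commutatorElement_def, map_mul, map_mul, map_mul, hχ', h, one_smul]
  -- the perfect-square statement
  obtain ⟨M, hM, hMd⟩ : ∃ M, R.index = M ^ 2 ∧ M ∣ Nat.card Q := by
    let perp : Set Q → Subgroup Q := fun S =>
      { carrier := {v | ∀ b ∈ S, χ v b = 1}
        one_mem' := fun b _ => hχone' b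
        mul_mem' := fun {v v'} hv hv' b hb => by rw [hχmul, hv b hb, hv' b hb, one_mul]
        inv_mem' := fun {v} hv b hb => by
          have := hχmul v v⁻¹ b
          rwa [mul_inv_cancel, hχone', hv b hb, one_mul, eq_comm] at this }
    haveI : Nonempty {L : Subgroup Q // R ≤ L ∧ L ≤ perp L} :=
      ⟨⟨R, le_rfl, fun v hv b _ => hχ1 v hv b⟩⟩
    obtain ⟨⟨L, hRL, hLL⟩, hmax⟩ :=
      Finite.exists_max fun L : {L : Subgroup Q // R ≤ L ∧ L ≤ perp L} => Nat.card L.1
    have hperp : perp L ≤ L := by
      intro v hv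
      by_contra hvL
      have hvv : χ v v = 1 := by
        refine (hinvb v v 1 ?_).symm
        rw [one_smul]
      have hclos : closure ((L : Set Q) ∪ {v}) ≤
          perp (closure ((L : Set Q) ∪ {v}) : Set Q) := by
        have h2 : closure ((L : Set Q) ∪ {v}) ≤ perp ((L : Set Q) ∪ {v}) := by
          rw [closure_le]
          rintro a (ha | ha) b (hb | hb)
          · exact hLL ha b hb
          · rw [Set.mem_singleton_iff] at hb
            subst hb
            have := hχswap a b
            rwa [hv a ha, mul_one] at this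
          · rw [Set.mem_singleton_iff] at ha
            subst ha
            exact hv b hb
          · rw [Set.mem_singleton_iff] at ha hb
            subst ha hb
            exact hvv
        intro a ha b hb
        refine closure_induction (p := fun b _ => χ a b = 1) (fun b hb => h2 ha b hb) (hχone a)
          (fun b b' _ _ h h' => by rw [hχmul', h, h', one_mul]) (fun b _ h => ?_) hb
        have := hχmul' a b b⁻¹
        rwa [mul_inv_cancel, hχone, h, one_mul, eq_comm] at this
      have hle : L ≤ closure ((L : Set Q) ∪ {v}) :=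
        fun a ha => subset_closure (Or.inl ha)
      have h3 := hmax ⟨_, hRL.trans hle, hclos⟩
      have h4 := eq_of_le_of_card_ge hle h3
      exact hvL (h4.symm ▸ subset_closure (Or.inr rfl))
    haveI := Fintype.ofFinite L
    haveI : L.Normal := ⟨fun v hv g => by
      have := L.mul_mem (hRL (hcomm g v)) hv
      simpa [commutatorElement_def, mul_assoc] using this⟩
    have hcount : ∀ (A : Type w) [Group A] [Finite A] (ι : Type w) (f : ι → (A →* k)),
        Function.Injective f → Nat.card ι ≤ Nat.card A := by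
      intro A _ _ ι f hf
      haveI := Fintype.ofFinite A
      have hli := (linearIndependent_monoidHom A k).comp f hf
      haveI : Finite ι := Module.Finite.finite_basis (R := k) (M := ↥(Submodule.span k (Set.range
        ((fun g : A →* k => (g : A → k)) ∘ f)))) (Module.Basis.span hli)
      haveI := Fintype.ofFinite ι
      have := hli.fintype_card_le_finrank
      rwa [Module.finrank_pi, ← Nat.card_eq_fintype_card, ← Nat.card_eq_fintype_card] at this
    -- `Q/L` embeds into the characters of `L/R`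
    have h1 : L.index ≤ R.relIndex L := by
      haveI : (R.subgroupOf L).Normal := inferInstance
      let f : Q ⧸ L → (↥L ⧸ R.subgroupOf L →* k) := fun v =>
        QuotientGroup.lift (R.subgroupOf L)
          { toFun := fun b => χ b v.out
            map_one' := hχone' _
            map_mul' := fun a b => hχmul a b _ }
          (fun b hb => hχ1 b hb _)
      refine hcount _ _ f ?_
      intro a b e
      rw [← QuotientGroup.out_eq' a, ← QuotientGroup.out_eq' b, QuotientGroup.eq]
      apply hperp
      intro l hl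
      have h := DFunLike.congr_fun e (QuotientGroup.mk ⟨l, hl⟩)
      change χ l a.out = χ l b.out at h
      have h5 : χ l (a.out⁻¹ * b.out) = 1 := by
        have h6 := hχmul' l a.out (a.out⁻¹ * b.out)
        rw [mul_inv_cancel_left, ← h] at h6
        exact (mul_eq_left₀ (hχne _ _)).mp h6.symm
      have := hχswap (a.out⁻¹ * b.out) l
      rwa [h5, mul_one] at this
    have h2 : R.relIndex L ≤ L.index := by
      let f : ↥L ⧸ R.subgroupOf L → (Q ⧸ L →* k) := fun v =>
        QuotientGroup.lift L
          { toFun := fun b => χ b (v.out : L)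
            map_one' := hχone' _
            map_mul' := fun a b => hχmul a b _ }
          (fun b hb => hLL hb _ (v.out).2)
      refine hcount _ _ f ?_
      intro a b e
      rw [← QuotientGroup.out_eq' a, ← QuotientGroup.out_eq' b, QuotientGroup.eq, mem_subgroupOf]
      by_contra hnR
      obtain ⟨c, hc⟩ := hχnd _ hnR
      apply hc
      have h := DFunLike.congr_fun e (QuotientGroup.mk c)
      change χ c (a.out : L) = χ c (b.out : L) at h
      have h5 : χ c (((a.out : L) : Q)⁻¹ * (b.out : L)) = 1 := by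
        have h6 := hχmul' c ((a.out : L) : Q) (((a.out : L) : Q)⁻¹ * (b.out : L))
        rw [mul_inv_cancel_left, ← h] at h6
        exact (mul_eq_left₀ (hχne _ _)).mp h6.symm
      have := hχswap (((a.out : L) : Q)⁻¹ * (b.out : L)) c
      rw [h5, mul_one] at this
      simpa using this
    refine ⟨L.index, ?_, index_dvd_card L⟩
    rw [← relIndex_mul_index hRL, le_antisymm h2 h1, pow_two]
  -- the projective decomposition
  let E0 : Submodule k (Module.End k W) :=
    { carrier := {a | ∀ v, ρ v * a = a * ρ v}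
      zero_mem' := fun v => by simp
      add_mem' := fun {a b} ha hb v => by rw [mul_add, add_mul, ha v, hb v]
      smul_mem' := fun c a ha v => by rw [mul_smul_comm, ha v, smul_mul_assoc] }
  let rep : Q ⧸ R → Q := Quotient.out
  have hrepR : ∀ v : Q, (rep (QuotientGroup.mk v))⁻¹ * v ∈ R := fun v =>
    QuotientGroup.eq.mp (QuotientGroup.out_eq' _)
  let Φ : (Q ⧸ R → E0) →ₗ[k] Module.End k W :=
    { toFun := fun f => ∑ i, ρ (rep i) * (f i : Module.End k W)
      map_add' := fun f g => by simp [mul_add, Finset.sum_add_distrib]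
      map_smul' := fun c f => by simp [Finset.smul_sum] }
  have hchar : ∀ v, v ∉ R → ∑ i, χ v (rep i) = 0 := by
    intro v hv
    obtain ⟨c, hc⟩ := hχnd v hv
    have h1 : ∀ i, χ v c * χ v (rep i) = χ v (rep (QuotientGroup.mk c * i)) := by
      intro i
      rw [← hχmul']
      have hi : (QuotientGroup.mk (c * rep i) : Q ⧸ R) = QuotientGroup.mk c * i := by
        rw [QuotientGroup.mk_mul]
        exact congrArg _ (QuotientGroup.out_eq' i)
      have h2 := hχmul' v (rep (QuotientGroup.mk c * i)) ((rep (QuotientGroup.mk c * i))⁻¹ * (c * rep i))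
      rw [mul_inv_cancel_left] at h2
      have h3 : χ v ((rep (QuotientGroup.mk c * i))⁻¹ * (c * rep i)) = 1 := by
        have h4 := hχswap v ((rep (QuotientGroup.mk c * i))⁻¹ * (c * rep i))
        have h7 := hrepR (c * rep i)
        rw [hi] at h7
        rwa [hχ1 _ h7, mul_one] at h4
      rw [h2, h3, mul_one]
    have h2 : χ v c * ∑ i, χ v (rep i) = ∑ i, χ v (rep i) := by
      rw [Finset.mul_sum]
      exact Fintype.sum_equiv (Equiv.mulLeft (QuotientGroup.mk c)) _ _ h1
    by_contra h0
    exact hc ((mul_eq_right₀ h0).mp h2)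
  have hNk : (R.index : k) ≠ 0 := by
    intro h
    apply hQk
    rw [← card_mul_index R, Nat.cast_mul, h, mul_zero]
  have hindex : Fintype.card (Q ⧸ R) = R.index := Nat.card_eq_fintype_card.symm
  have hconj : ∀ (j i : Q ⧸ R) (a : E0),
      ρ (rep j) * (ρ (rep i) * (a : Module.End k W)) * ρ (rep j)⁻¹ =
        χ (rep j) (rep i) • (ρ (rep i) * (a : Module.End k W)) := by
    intro j i a
    rw [← mul_assoc, hχ, smul_mul_assoc, smul_mul_assoc, mul_assoc (ρ (rep i)) (ρ (rep j)),
      a.2 (rep j), ← mul_assoc (ρ (rep i)), mul_assoc _ (ρ (rep j)) (ρ (rep j)⁻¹), hinv, mul_one]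
  have hinj : Function.Injective Φ := by
    rw [← LinearMap.ker_eq_bot, LinearMap.ker_eq_bot']
    intro f hf
    funext i₀
    have h1 : ∀ j, ∑ i, (χ (rep j) (rep i) * χ (rep i₀) (rep j)) •
        (ρ (rep i) * (f i : Module.End k W)) = 0 := by
      intro j
      have := congrArg (fun a => χ (rep i₀) (rep j) • (ρ (rep j) * a * ρ (rep j)⁻¹)) hf
      simp only [Φ, LinearMap.coe_mk, AddHom.coe_mk, Finset.mul_sum, Finset.sum_mul, hconj,
        Finset.smul_sum, smul_smul, mul_zero, zero_mul, smul_zero] at this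
      simpa [mul_comm] using this
    have h2 : ∑ i, (∑ j, χ (rep j) (rep i) * χ (rep i₀) (rep j)) •
        (ρ (rep i) * (f i : Module.End k W)) = 0 := by
      simp only [Finset.sum_smul]
      rw [Finset.sum_comm]
      exact Finset.sum_eq_zero fun j _ => h1 j
    have hone : ∀ j, χ (rep j) (rep i₀) * χ (rep i₀) (rep j) = 1 := fun j => hχswap _ _
    rw [Finset.sum_eq_single i₀, Finset.sum_congr rfl fun j _ => hone j, Finset.sum_const,
      Finset.card_univ, nsmul_one, hindex, smul_eq_zero, or_iff_right hNk] at h2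
    · refine Subtype.ext ?_
      have h3 := congrArg (ρ (rep i₀)⁻¹ * ·) h2
      simpa [← mul_assoc, hinv'] using h3
    · intro i _ hi
      have hne : (rep i)⁻¹ * rep i₀ ∉ R := fun h => hi (by
        rw [← QuotientGroup.out_eq' i, ← QuotientGroup.out_eq' i₀]; exact QuotientGroup.eq.mpr h)
      have h3 : ∀ j, χ (rep j) (rep i) * χ (rep i₀) (rep j) = χ ((rep i)⁻¹ * rep i₀) (rep j) := by
        intro j
        rw [hχmul]
        congr 1
        have h4 := hχmul (rep i) (rep i)⁻¹ (rep j)
        rw [mul_inv_cancel, hχone'] at h4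
        calc χ (rep j) (rep i) = χ (rep j) (rep i) * (χ (rep i) (rep j) * χ (rep i)⁻¹ (rep j)) := by
              rw [← h4, mul_one]
          _ = χ (rep i)⁻¹ (rep j) := by rw [← mul_assoc, hχswap, one_mul]
      rw [Finset.sum_congr rfl fun j _ => h3 j, hchar _ hne, zero_smul]
    · simp
  have hsurj : Function.Surjective Φ := by
    intro a
    -- averaging over the whole group
    haveI := Fintype.ofFinite Q
    let avg : Module.End k W → Module.End k W := fun c => ∑ v : Q, ρ v * c * ρ v⁻¹
    have havg : ∀ c, avg c ∈ E0 := by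
      intro c v
      simp only [avg, Finset.mul_sum, Finset.sum_mul]
      refine Fintype.sum_equiv (Equiv.mulLeft v) _ _ fun b => ?_
      simp only [Equiv.coe_mulLeft, mul_inv_rev, map_mul, mul_assoc, hinv', mul_one]
    refine ⟨fun i => (Nat.card Q : k)⁻¹ • ⟨avg (ρ (rep i)⁻¹ * a), havg _⟩, ?_⟩
    simp only [Φ, LinearMap.coe_mk, AddHom.coe_mk, SetLike.val_smul, avg, mul_smul_comm,
      ← Finset.smul_sum, Finset.mul_sum]
    rw [Finset.sum_comm]
    have h1 : ∀ (v : Q) (i : Q ⧸ R), ρ (rep i) * (ρ v * (ρ (rep i)⁻¹ * a) * ρ v⁻¹) =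
        χ (rep i) v • (ρ v * a * ρ v⁻¹) := by
      intro v i
      rw [← mul_assoc, ← mul_assoc (ρ (rep i)), hχ (rep i) v, smul_mul_assoc, smul_mul_assoc,
        mul_assoc (ρ v) (ρ (rep i)), ← mul_assoc (ρ (rep i)), hinv, one_mul]
    simp only [h1, ← Finset.sum_smul]
    have h2 : ∀ v : Q, (∑ i, χ (rep i) v) • (ρ v * a * ρ v⁻¹) =
        if v ∈ R then (R.index : k) • a else 0 := by
      intro v
      by_cases hv : v ∈ R
      · rw [if_pos hv]
        obtain ⟨c, hc⟩ := hR v hv
        have e1 : ∀ i, χ (rep i) v = 1 := fun i => by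
          have := hχswap (rep i) v; rwa [hχ1 v hv, mul_one] at this
        rw [Finset.sum_congr rfl fun i _ => e1 i, Finset.sum_const, Finset.card_univ, nsmul_one,
          hindex]
        congr 1
        calc ρ v * a * ρ v⁻¹ = a * (ρ v * ρ v⁻¹) := by
              rw [hc, smul_mul_assoc, one_mul, ← mul_assoc, mul_smul_comm, mul_one]
          _ = a := by rw [hinv, mul_one]
      · rw [if_neg hv]
        obtain ⟨c, hc⟩ := hχnd v hv
        have h0 : ∑ i, χ (rep i) v = 0 := by
          have h5 : ∀ i, χ (rep i) v = χ v⁻¹ (rep i) := fun i => by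
            have h6 := hχmul v v⁻¹ (rep i)
            rw [mul_inv_cancel, hχone'] at h6
            calc χ (rep i) v = χ (rep i) v * (χ v (rep i) * χ v⁻¹ (rep i)) := by rw [← h6, mul_one]
              _ = _ := by rw [← mul_assoc, hχswap, one_mul]
          rw [Finset.sum_congr rfl fun i _ => h5 i]
          exact hchar _ fun h => hv (by simpa using R.inv_mem h)
        rw [h0, zero_smul]
    simp only [h2, Finset.sum_ite, Finset.sum_const_zero, add_zero, Finset.sum_const]
    rw [show (Finset.univ.filter (fun v => v ∈ R)).card = Nat.card R by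
      rw [← Fintype.card_subtype, Nat.card_eq_fintype_card],
      ← Nat.cast_smul_eq_nsmul k, smul_smul, smul_smul, mul_assoc, ← Nat.cast_mul, card_mul_index,
      inv_mul_cancel₀ hQk, one_smul]
  have hfin : R.index * Module.finrank k E0 = Module.finrank k W ^ 2 := by
    rw [pow_two, ← Module.finrank_linearMap k k W W,
      ← (LinearEquiv.ofBijective Φ ⟨hinj, hsurj⟩).finrank_eq, Module.finrank_pi_fintype,
      Finset.sum_const, Finset.card_univ, smul_eq_mul, hindex]
  -- the automorphism
  have hmk : ∀ v, (QuotientGroup.mk (σ (rep (QuotientGroup.mk v))) : Q ⧸ R) = QuotientGroup.mk (σ v) :=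
    fun v => QuotientGroup.eq.mpr (by
      have := hRσ _ (hrepR v)
      rwa [map_mul, map_inv] at this)
  let s : Q ⧸ R → Q ⧸ R := fun i => QuotientGroup.mk (σ (rep i))
  have hs : ∀ (n : ℕ) (i : Q ⧸ R), s^[n] i = QuotientGroup.mk (σ^[n] (rep i)) := by
    intro n
    induction n with
    | zero => intro i; exact (QuotientGroup.out_eq' i).symm
    | succ n ih =>
      intro i
      rw [Function.iterate_succ_apply', Function.iterate_succ_apply', ih]
      exact hmk _
  have hsr : ∀ i, s^[r] i = i := fun i => by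
    rw [hs, hσr]; exact QuotientGroup.out_eq' i
  have hsb : Function.Bijective s := Finite.injective_iff_bijective.mp fun a b e => by
    rw [← hsr a, ← hsr b]
    obtain ⟨m, hm⟩ : ∃ m, r = m + 1 := ⟨_, (Nat.succ_pred_eq_of_pos hr.pos).symm⟩
    rw [hm, Function.iterate_succ_apply, Function.iterate_succ_apply, e]
  let π := Equiv.ofBijective s hsb
  have hπ : ∀ (n : ℕ) i, (π ^ n) i = s^[n] i := fun n i => by
    rw [Equiv.Perm.coe_pow]; rfl
  obtain ⟨S, hS, hScard, hrdvd⟩ := exists_orbit_reps hr π (Equiv.ext fun i => by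
      rw [hπ, hsr]; rfl) (QuotientGroup.mk 1) (by
      show s (QuotientGroup.mk 1) = _
      show QuotientGroup.mk (σ (rep (QuotientGroup.mk 1))) = _
      rw [hmk, map_one]) (fun i hi => by
      rw [← QuotientGroup.out_eq' i]
      refine QuotientGroup.eq.mpr ?_
      have h := hfpf (rep i) (QuotientGroup.eq.mp ((QuotientGroup.out_eq' i).trans hi.symm))
      simpa using h)
  rw [hindex] at hScard hrdvd
  let Cx : Submodule k (Module.End k W) :=
    { carrier := {a | a * x = x * a}
      zero_mem' := by simp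
      add_mem' := fun {a b} ha hb => by simp only [Set.mem_setOf_eq] at *; rw [add_mul, mul_add, ha, hb]
      smul_mem' := fun c a ha => by simp only [Set.mem_setOf_eq] at *; rw [smul_mul_assoc, mul_smul_comm, ha] }
  let Φe := LinearEquiv.ofBijective Φ ⟨hinj, hsurj⟩
  let res : Cx →ₗ[k] (S → E0) :=
    { toFun := fun a i => Φe.symm (a : Module.End k W) i.1
      map_add' := fun a b => by funext i; simp
      map_smul' := fun c a => by funext i; simp }
  have hresinj : Function.Injective res := by
    rw [← LinearMap.ker_eq_bot, LinearMap.ker_eq_bot']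
    intro a ha
    set f := Φe.symm (a : Module.End k W) with hf
    have hfa : Φ f = (a : Module.End k W) := Φe.apply_symm_apply _
    obtain ⟨m, hm⟩ : ∃ m, r = m + 1 := ⟨_, (Nat.succ_pred_eq_of_pos hr.pos).symm⟩
    have hxx : x * x ^ m = 1 := by rw [← pow_succ', ← hm, hxr]
    have hxx' : x ^ m * x = 1 := by rw [← pow_succ, ← hm, hxr]
    have hmem : ∀ i, x * (f i : Module.End k W) * x ^ m ∈ E0 := by
      intro i v
      obtain ⟨v', rfl⟩ := σ.surjective v
      have e1 : ρ (σ v') = x * ρ v' * x ^ m := by rw [hσ, mul_assoc, hxx, mul_one]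
      rw [e1]
      calc x * ρ v' * x ^ m * (x * (f i : Module.End k W) * x ^ m)
          = x * (ρ v' * ((x ^ m * x) * (f i : Module.End k W))) * x ^ m := by simp only [mul_assoc]
        _ = x * ((f i : Module.End k W) * ((x ^ m * x) * ρ v')) * x ^ m := by
            rw [hxx', one_mul, one_mul, (f i).2 v']
        _ = _ := by simp only [mul_assoc]
    choose c hc using fun i : Q ⧸ R => hR _ (hrepR (σ (rep i)))
    let g : Q ⧸ R → E0 := fun i =>
      c (π.symm i) • ⟨x * (f (π.symm i) : Module.End k W) * x ^ m, hmem _⟩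
    have hg : Φ g = (a : Module.End k W) := by
      have h1 : x * (a : Module.End k W) * x ^ m = a := by rw [← a.2, mul_assoc, hxx, mul_one]
      rw [← h1, ← hfa]
      simp only [Φ, LinearMap.coe_mk, AddHom.coe_mk, Finset.mul_sum, Finset.sum_mul]
      refine Fintype.sum_equiv π.symm _ _ fun i => ?_
      obtain ⟨j, rfl⟩ := π.surjective i
      simp only [g, Equiv.symm_apply_apply, SetLike.val_smul]
      rw [show π j = QuotientGroup.mk (σ (rep j)) from rfl]
      rw [mul_smul_comm]
      calc c j • (ρ (rep (QuotientGroup.mk (σ (rep j)))) * (x * (f j : Module.End k W) * x ^ m))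
          = (ρ (rep (QuotientGroup.mk (σ (rep j)))) * (c j • 1)) * (x * (f j : Module.End k W) * x ^ m) := by
            rw [mul_smul_comm, mul_one, smul_mul_assoc]
        _ = ρ (σ (rep j)) * (x * (f j : Module.End k W) * x ^ m) := by
            rw [← hc j, ← map_mul, mul_inv_cancel_left]
        _ = x * (ρ (rep j) * (f j : Module.End k W)) * x ^ m := by
            rw [← mul_assoc, ← mul_assoc, ← hσ, mul_assoc x]
    have hgf : g = f := hinj (hg.trans hfa.symm)
    have hzero : ∀ (n : ℕ) (i : Q ⧸ R), f i = 0 → f ((π ^ n) i) = 0 := by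
      intro n i hi
      induction n with
      | zero => simpa using hi
      | succ n ih =>
        rw [pow_succ', Equiv.Perm.mul_apply, ← hgf]
        simp only [g, Equiv.symm_apply_apply]
        refine smul_eq_zero_of_right _ (Subtype.ext ?_)
        simp [ih]
    have hf0 : f = 0 := funext fun i => by
      obtain ⟨s', hs', n, rfl⟩ := hS i
      exact hzero n s' (congrFun ha ⟨s', hs'⟩)
    refine Subtype.ext ?_
    rw [← hfa, hf0, map_zero]; rfl
  have hCx : Module.finrank k Cx ≤ S.card * Module.finrank k E0 := by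
    have := LinearMap.finrank_le_finrank_of_injective hresinj
    rwa [Module.finrank_pi_fintype, Finset.sum_const, Finset.card_univ, smul_eq_mul,
      Fintype.card_coe] at this
  refine ⟨M, hM, ?_, hrdvd, hMd⟩
  have h1 := sq_finrank_le hr hrk x hxr hfix Cx (fun a ha => ha)
  have hwpos : 0 < Module.finrank k W := Module.finrank_pos
  set b := Module.finrank k E0
  have hb : 0 < b := by
    rcases Nat.eq_zero_or_pos b with h | h
    · rw [h, mul_zero] at hfin; exact absurd hfin.symm (pow_ne_zero 2 hwpos.ne')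
    · exact h
  rw [← hfin] at h1
  have h2 : R.index ≤ (r - 1) * S.card :=
    Nat.le_of_mul_le_mul_right (h1.trans (by rw [mul_assoc]; exact Nat.mul_le_mul_left _ hCx)) hb
  obtain ⟨m, hm⟩ : ∃ m, r = m + 1 := ⟨_, (Nat.succ_pred_eq_of_pos hr.pos).symm⟩
  rw [hM] at h2 hScard
  rw [hm] at h2 hScard ⊢
  simp only [Nat.add_sub_cancel] at h2 ⊢
  have h3 : (m + 1) * M ^ 2 ≤ m * (M ^ 2 + m) := by
    calc (m + 1) * M ^ 2 ≤ (m + 1) * (m * S.card) := Nat.mul_le_mul_left _ h2
      _ = m * ((m + 1) * S.card) := by ring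
      _ ≤ m * (M ^ 2 + m) := Nat.mul_le_mul_left _ (by omega)
  nlinarith

end Core

end Cfsg.Agent.Classes23
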