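import Cfsg.Agent.Lib.Transfer.Fusion
import Cfsg.Agent.Lib.Transfer.Abelian

/-!
# Classes of π-elements: the half bound
-/

set_option autoImplicit false
set_option linter.style.haveILetI false
set_option linter.unusedSectionVars false

namespace Cfsg.Agent.Classes23

open Subgroup Cfsg Cfsg.Agent.Transfer
open scoped Classical commutatorElement

universe u

/-- Number of classes of `p`-elements. -/
noncomputable def kP (p : ℕ) (G : Type u) [Group G] : ℕ :=
  Nat.card {c : ConjClasses G // ∀ x ∈ c.carrier, ∃ k : ℕ, orderOf x = p ^ k}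

/-- Number of classes of `π`-elements. -/
noncomputable def kPi (π : Finset ℕ) (G : Type u) [Group G] : ℕ :=
  Nat.card {c : ConjClasses G // ∀ x ∈ c.carrier, ∀ r : ℕ, r.Prime → r ∣ orderOf x → r ∈ π}

theorem finite_conjClasses (H : Type u) [Group H] [Finite H] : Finite (ConjClasses H) :=
  Finite.of_surjective ConjClasses.mk ConjClasses.mk_surjective

attribute [local instance] finite_conjClasses

variable {G : Type u} [Group G] [Finite G] {p : ℕ} [hp : Fact p.Prime]

theorem exists_rep_mem_sylow (P : Sylow p G)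
    (c : {c : ConjClasses G // ∀ x ∈ c.carrier, ∃ k : ℕ, orderOf x = p ^ k}) :
    ∃ x ∈ (P : Subgroup G), ConjClasses.mk x = c.1 := by
  obtain ⟨y, hy⟩ := ConjClasses.mk_surjective c.1
  obtain ⟨k, hk⟩ := c.2 y (ConjClasses.mem_carrier_iff_mk_eq.mpr hy)
  have hz : IsPGroup p (zpowers y) := IsPGroup.of_card (n := k) (by rw [Nat.card_zpowers, hk])
  obtain ⟨Q, hQ⟩ := hz.exists_le_sylow
  obtain ⟨g, hg⟩ := MulAction.exists_smul_eq G Q P
  refine ⟨g * y * g⁻¹, ?_, ?_⟩
  · rw [← hg]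
    exact ⟨y, hQ (mem_zpowers y), rfl⟩
  · rw [← hy, ConjClasses.mk_eq_mk_iff_isConj, isConj_comm]
    exact isConj_iff.mpr ⟨g, rfl⟩

/-- Weighted count of classes of `p`-elements on a Sylow subgroup. -/
theorem kP_mul_le (P : Sylow p G) [Fintype G] (m : ℕ) (f : G → ℕ)
    (h : ∀ x ∈ (P : Subgroup G), ∃ S : Finset G,
      (∀ y ∈ S, y ∈ (P : Subgroup G) ∧ IsConj x y) ∧ m ≤ S.sum f) :
    kP p G * m ≤ (Finset.univ.filter (fun y => y ∈ (P : Subgroup G))).sum f := by
  haveI := Fintype.ofFinite {c : ConjClasses G // ∀ x ∈ c.carrier, ∃ k : ℕ, orderOf x = p ^ k}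
  choose x hxP hxc using exists_rep_mem_sylow P
  choose S hS hm using fun c => h (x c) (hxP c)
  have hd : Set.PairwiseDisjoint (↑(Finset.univ : Finset {c : ConjClasses G // ∀ x ∈ c.carrier, ∃ k : ℕ, orderOf x = p ^ k}) : Set _) S := by
    intro c _ d _ hcd
    refine Finset.disjoint_left.mpr fun y hy1 hy2 => hcd (Subtype.ext ?_)
    rw [← hxc c, ← hxc d, ConjClasses.mk_eq_mk_iff_isConj]
    exact (hS c y hy1).2.trans (hS d y hy2).2.symm
  calc kP p G * m = ∑ _c : {c : ConjClasses G // ∀ x ∈ c.carrier, ∃ k : ℕ, orderOf x = p ^ k}, m := by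
        rw [Finset.sum_const, Finset.card_univ, smul_eq_mul, kP, Nat.card_eq_fintype_card]
    _ ≤ ∑ c, (S c).sum f := Finset.sum_le_sum fun c _ => hm c
    _ = (Finset.univ.biUnion S).sum f := (Finset.sum_biUnion hd).symm
    _ ≤ _ := by
        refine Finset.sum_le_sum_of_subset fun y hy => ?_
        obtain ⟨c, -, hc⟩ := Finset.mem_biUnion.mp hy
        simp [(hS c y hc).1]

omit hp in
theorem card_filter_mem [Fintype G] (P : Subgroup G) :
    (Finset.univ.filter (fun y => y ∈ P)).card = Nat.card P := by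
  rw [← Fintype.card_subtype, ← Nat.card_eq_fintype_card]

theorem kP_le (P : Sylow p G) : kP p G ≤ Nat.card (P : Subgroup G) := by
  haveI := Fintype.ofFinite G
  have := kP_mul_le P 1 (fun _ => 1)
    (fun x hx => ⟨{x}, (fun y hy => by rw [Finset.mem_singleton] at hy; subst hy; exact ⟨hx, IsConj.refl _⟩), by simp⟩)
  rwa [mul_one, Finset.sum_const, smul_eq_mul, mul_one, card_filter_mem] at this

omit hp [Finite G] in
theorem commute_of_sq {g x : G} (ho : Odd (orderOf g)) (h : Commute (g ^ 2) x) : Commute g x := by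
  obtain ⟨k, hk⟩ := ho
  have : g = (g ^ 2) ^ (k + 1) := by
    rw [← pow_mul, show 2 * (k + 1) = orderOf g + 1 by omega, pow_succ, pow_orderOf_eq_one, one_mul]
  rw [this]; exact h.pow_left _

omit hp [Finite G] in
theorem conj_mem_of_mem_normalizer {Q : Subgroup G} {g x : G} (hg : g ∈ normalizer (Q : Set G))
    (hx : x ∈ Q) : g * x * g⁻¹ ∈ Q := (mem_normalizer_iff.mp hg x).mp hx

omit hp [Finite G] in
theorem three_conj {Q : Subgroup G} {g x : G} (hg : g ∈ normalizer (Q : Set G))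
    (ho : Odd (orderOf g)) (hx : x ∈ Q) (hne : ¬ Commute g x) :
    ∃ S : Finset G, S.card = 3 ∧ ∀ y ∈ S, y ∈ Q ∧ IsConj x y := by
  have h1 : ∀ a : G, g * a * g⁻¹ = a ↔ Commute g a := fun a => mul_inv_eq_iff_eq_mul
  have hxy : x ≠ g * x * g⁻¹ := fun e => hne ((h1 x).mp e.symm)
  have hxz : x ≠ g * (g * x * g⁻¹) * g⁻¹ := by
    intro e
    refine hne (commute_of_sq ho ?_)
    exact mul_inv_eq_iff_eq_mul.mp (show g ^ 2 * x * (g ^ 2)⁻¹ = x by conv_rhs => rw [e]
                                                                      simp [pow_two, mul_assoc])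
  have hyz : g * x * g⁻¹ ≠ g * (g * x * g⁻¹) * g⁻¹ := fun e => hxy (by simpa using e)
  refine ⟨{x, g * x * g⁻¹, g * (g * x * g⁻¹) * g⁻¹},
    Finset.card_eq_three.mpr ⟨_, _, _, hxy, hxz, hyz, rfl⟩, fun y hy => ?_⟩
  simp only [Finset.mem_insert, Finset.mem_singleton] at hy
  rcases hy with rfl | rfl | rfl
  · exact ⟨hx, IsConj.refl _⟩
  · exact ⟨conj_mem_of_mem_normalizer hg hx, isConj_iff.mpr ⟨g, rfl⟩⟩
  · exact ⟨conj_mem_of_mem_normalizer hg (conj_mem_of_mem_normalizer hg hx),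
      (isConj_iff.mpr ⟨g, rfl⟩ : IsConj x (g * x * g⁻¹)).trans (isConj_iff.mpr ⟨g, rfl⟩)⟩

omit hp [Finite G] in
theorem conj_pow_eq {g x f : G} (hf : Commute g f) (h : g * x * g⁻¹ = x * f) :
    ∀ k : ℕ, g ^ k * x * (g ^ k)⁻¹ = x * f ^ k
  | 0 => by simp
  | k + 1 => by
      have := conj_pow_eq hf h k
      calc g ^ (k + 1) * x * (g ^ (k + 1))⁻¹ = g * (g ^ k * x * (g ^ k)⁻¹) * g⁻¹ := by
            rw [pow_succ']; simp [mul_assoc]
        _ = (g * x * g⁻¹) * (g * f ^ k * g⁻¹) := by rw [this]; simp [mul_assoc]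
        _ = x * f ^ (k + 1) := by
            rw [h, mul_inv_eq_iff_eq_mul.mpr (hf.pow_right k).eq, pow_succ', mul_assoc]

/-- Fixed points of a nontrivial automorphism of odd order prime to `p` have index at least 4. -/
theorem four_mul_card_fixed_le {Q : Subgroup G} (hQ : IsPGroup p Q) {g : G}
    (hg : g ∈ normalizer (Q : Set G)) (ho : Odd (orderOf g)) (hc : (orderOf g).Coprime p)
    (hne : g ∉ centralizer (Q : Set G)) :
    4 * Nat.card ↥(Q ⊓ centralizer ({g} : Set G)) ≤ Nat.card Q := by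
  by_contra hlt
  push Not at hlt
  set F := Q ⊓ centralizer ({g} : Set G) with hFdef
  obtain ⟨x, hxQ, hxg⟩ : ∃ x ∈ Q, ¬ Commute g x := by
    by_contra! hh
    exact hne fun x hx => (hh x hx).eq.symm
  have hFc : ∀ a ∈ F, Commute g a := fun a ha => (mem_centralizer_singleton_iff.mp ha.2).symm
  have hxF : x ∉ F := fun h => hxg (hFc x h)
  set y := g * x * g⁻¹ with hy
  set z := g * y * g⁻¹ with hz
  have hyQ : y ∈ Q := conj_mem_of_mem_normalizer hg hxQ
  have hzQ : z ∈ Q := conj_mem_of_mem_normalizer hg hyQ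
  have key : x⁻¹ * y ∈ F → False := by
    intro hf
    set f := x⁻¹ * y
    have h1 := conj_pow_eq (hFc f hf) (show g * x * g⁻¹ = x * f by simp [f, hy]) (orderOf g)
    rw [pow_orderOf_eq_one, one_mul, inv_one, mul_one, left_eq_mul] at h1
    obtain ⟨n, hn⟩ := hQ ⟨f, hf.1⟩
    have hn' : f ^ p ^ n = 1 := congrArg Subtype.val hn
    have hf1 : f = 1 := orderOf_eq_one_iff.mp (Nat.eq_one_of_dvd_coprimes
      (Nat.Coprime.pow_right n hc) (orderOf_dvd_of_pow_eq_one h1) (orderOf_dvd_of_pow_eq_one hn'))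
    refine hxg (mul_inv_eq_iff_eq_mul.mp ?_)
    show y = x
    exact (inv_mul_eq_one.mp hf1).symm
  have hnot : ∀ {a : G}, g * a * g⁻¹ ∈ F → a ∈ F := by
    intro a ha
    have h1 : g * a * g⁻¹ = a := by
      have := (hFc _ ha).eq
      calc g * a * g⁻¹ = g⁻¹ * (g * (g * a * g⁻¹)) := by simp
        _ = g⁻¹ * ((g * a * g⁻¹) * g) := by rw [this]
        _ = a := by simp [mul_assoc]
    rwa [h1] at ha
  have hyF : y ∉ F := fun h => hxF (hnot h)
  have hzF : z ∉ F := fun h => hyF (hnot h)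
  have hcard : Nat.card (↥Q ⧸ F.subgroupOf Q) < 4 := by
    by_contra! h
    have := card_mul_index (F.subgroupOf Q)
    rw [Nat.card_congr (subgroupOfEquivOfLe (inf_le_left : F ≤ Q)).toEquiv] at this
    rw [show (F.subgroupOf Q).index = Nat.card (↥Q ⧸ F.subgroupOf Q) from rfl] at this
    nlinarith
  haveI := Fintype.ofFinite (↥Q ⧸ F.subgroupOf Q)
  let v : Fin 4 → ↥Q := ![1, ⟨x, hxQ⟩, ⟨y, hyQ⟩, ⟨z, hzQ⟩]
  obtain ⟨i, j, hij, he⟩ := Fintype.exists_ne_map_eq_of_card_lt
    (fun i => (QuotientGroup.mk (v i) : ↥Q ⧸ F.subgroupOf Q))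
    (by rw [Fintype.card_fin, ← Nat.card_eq_fintype_card]; exact hcard)
  have he' : ((v i : ↥Q) : G)⁻¹ * (v j : G) ∈ F := by
    have := QuotientGroup.eq.mp he
    exact this
  have hxy : x⁻¹ * y ∈ F → False := key
  have hyz : y⁻¹ * z ∈ F → False := fun h => key (hnot (by
    simpa [hy, hz, mul_assoc] using h))
  have hxz : x⁻¹ * z ∈ F → False := by
    intro hf
    obtain ⟨k, hk⟩ := ho
    have hg2 : Commute (g ^ 2) (x⁻¹ * z) := (hFc _ hf).pow_left 2
    have h1 := conj_pow_eq hg2 (show g ^ 2 * x * (g ^ 2)⁻¹ = x * (x⁻¹ * z) by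
      simp [hy, hz, pow_two, mul_assoc]) (k + 1)
    rw [← pow_mul, show 2 * (k + 1) = orderOf g + 1 by omega, pow_succ, pow_orderOf_eq_one, one_mul]
      at h1
    apply key
    rw [hy, h1, inv_mul_cancel_left]
    exact pow_mem hf _
  have hs : ∀ {a b : G}, a⁻¹ * b ∈ F → b⁻¹ * a ∈ F := fun h => by simpa using F.inv_mem h
  fin_cases i <;> fin_cases j <;>
    first
      | exact hij rfl
      | (simp [v] at he'; first
          | exact hxF he' | exact hyF he' | exact hzF he'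
          | exact hxy he' | exact hxy (hs he') | exact hyz he' | exact hyz (hs he')
          | exact hxz he' | exact hxz (hs he'))

/-- The orbit bound. -/
theorem two_mul_kP_le (P : Sylow p G) (Q : Subgroup G) (hQP : Q ≤ (P : Subgroup G)) {g : G}
    (hg : g ∈ normalizer (Q : Set G)) (ho : Odd (orderOf g)) (hc : (orderOf g).Coprime p)
    (hne : g ∉ centralizer (Q : Set G))
    (hout : ∀ x ∈ (P : Subgroup G), x ∉ Q → ∃ y ∈ (P : Subgroup G), ¬ Commute y x) :
    2 * kP p G ≤ Nat.card (P : Subgroup G) := by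
  haveI := Fintype.ofFinite G
  have h4 := four_mul_card_fixed_le (P.2.to_le hQP) hg ho hc hne
  set F := Q ⊓ centralizer ({g} : Set G) with hFdef
  let f : G → ℕ := fun x => if x ∈ F then 6 else if x ∈ Q then 2 else 3
  have hmain := kP_mul_le P 6 f ?_
  · set T := Finset.univ.filter (fun y => y ∈ (P : Subgroup G))
    have hsum : T.sum f + Nat.card Q = 3 * Nat.card (P : Subgroup G) + 4 * Nat.card F := by
      have e : ∀ H : Subgroup G, H ≤ (P : Subgroup G) →
          T.sum (fun y => if y ∈ H then 1 else 0) = Nat.card H := by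
        intro H hH
        rw [Finset.sum_boole, Nat.cast_id, ← card_filter_mem H, Finset.filter_filter]
        congr 1
        ext y; simpa using fun hy => hH hy
      rw [← e Q hQP, ← e F (inf_le_left.trans hQP), ← card_filter_mem (P : Subgroup G),
        ← Finset.sum_add_distrib, Finset.card_eq_sum_ones, Finset.mul_sum, Finset.mul_sum,
        ← Finset.sum_add_distrib]
      refine Finset.sum_congr rfl fun y _ => ?_
      by_cases hyF : y ∈ F
      · simp [f, hyF, (mem_inf.mp hyF).1]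
      · by_cases hyQ : y ∈ Q <;> simp [f, hyF, hyQ]
    omega
  · intro x hx
    by_cases hmeet : ∃ x' ∈ Q, IsConj x x'
    · obtain ⟨x', hx'Q, hxx'⟩ := hmeet
      by_cases hx'F : x' ∈ F
      · exact ⟨{x'}, (fun y hy => by rw [Finset.mem_singleton] at hy; subst hy; exact ⟨hQP hx'Q, hxx'⟩), by simp [f, hx'F]⟩
      · have hnc : ¬ Commute g x' :=
          fun h => hx'F ⟨hx'Q, mem_centralizer_singleton_iff.mpr h.eq.symm⟩
        obtain ⟨S, hS3, hS⟩ := three_conj hg ho hx'Q hnc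
        refine ⟨S, fun y hy => ⟨hQP (hS y hy).1, hxx'.trans (hS y hy).2⟩, ?_⟩
        calc 6 = S.card • 2 := by rw [hS3]; rfl
          _ ≤ S.sum f := Finset.card_nsmul_le_sum _ _ _ fun y hy => by
              simp only [f, if_pos (hS y hy).1]; split <;> omega
    · push Not at hmeet
      have hxQ : x ∉ Q := fun h => hmeet x h (IsConj.refl x)
      obtain ⟨y, hy, hyx⟩ := hout x hx hxQ
      have hconj : IsConj x (y * x * y⁻¹) := isConj_iff.mpr ⟨y, rfl⟩
      refine ⟨{x, y * x * y⁻¹}, ?_, ?_⟩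
      · intro a ha
        simp only [Finset.mem_insert, Finset.mem_singleton] at ha
        rcases ha with rfl | rfl
        · exact ⟨hx, IsConj.refl _⟩
        · exact ⟨mul_mem (mul_mem hy hx) (inv_mem hy), hconj⟩
      · have hd : x ≠ y * x * y⁻¹ := fun e => hyx (mul_inv_eq_iff_eq_mul.mp e.symm)
        have h2Q : y * x * y⁻¹ ∉ Q := fun h => hmeet _ h hconj
        rw [Finset.sum_pair hd]
        simp [f, hxQ, h2Q, hFdef]

theorem mem_normalizer_of_map_le {H : Subgroup G} {g : G}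
    (h : H.map (MulAut.conj g).toMonoidHom ≤ H) : g ∈ normalizer (H : Set G) := by
  have he : H.map (MulAut.conj g).toMonoidHom = H :=
    eq_of_le_of_card_ge h (by
      rw [Nat.card_congr (equivMapOfInjective H _ (MulAut.conj g).injective).toEquiv.symm])
  rw [mem_normalizer_iff]
  intro r
  constructor
  · intro hr; rw [← he]; exact ⟨r, hr, rfl⟩
  · intro hr
    rw [← he] at hr
    obtain ⟨s, hs, he'⟩ := hr
    exact (MulAut.conj g).injective he' ▸ hs

/-- For `p = 2` more than half gives a normal 2-complement. -/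
theorem hasNormalPComplement_two {G : Type u} [Group G] [Finite G] (P₀ : Sylow 2 G)
    (hk : Nat.card (P₀ : Subgroup G) < 2 * kP 2 G) : HasNormalPComplement 2 G := by
  refine hasNormalPComplement_of_frobenius fun D hD g hg hgo => ?_
  by_contra hne
  set C := centralizer (D : Set G) with hC
  let R₀ : Sylow 2 C := default
  set R := (R₀ : Subgroup C).map C.subtype with hRdef
  have hR : IsPGroup 2 R := R₀.2.map _
  have hRC : R ≤ C := map_subtype_le _
  have hRn : R ≤ normalizer (D : Set G) :=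
    hRC.trans (centralizer_le_normalizer (D : Set G))
  have hDR : IsPGroup 2 ↥(D ⊔ R) := by
    rw [sup_comm]
    exact hR.to_sup_of_normal_right' hD hRn
  obtain ⟨P, hP⟩ := hDR.exists_le_sylow
  obtain ⟨hDP, hRP⟩ := sup_le_iff.mp hP
  have hcen : ∀ z ∈ (P : Subgroup G), (∀ y ∈ (P : Subgroup G), Commute y z) → z ∈ R := by
    intro z hz hzc
    have hzC : z ∈ C := fun d hd => (hzc d (hDP hd)).eq
    have hX : IsPGroup 2 ↥((P : Subgroup G).subgroupOf C) := P.2.comap_subtype
    have hle : (R₀ : Subgroup C) ≤ (P : Subgroup G).subgroupOf C := fun r hr =>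
      hRP ⟨r, hr, rfl⟩
    refine ⟨⟨z, hzC⟩, ?_, rfl⟩
    rw [← R₀.3 hX hle]
    exact hz
  haveI hCn : (C.subgroupOf (normalizer (D : Set G))).Normal := by
    constructor
    intro c hc n d hd
    have hd' : (n : G)⁻¹ * d * n ∈ D := by
      simpa using (mem_normalizer_iff''.mp n.2 d).mp hd
    have e := hc _ hd'
    show d * ((n : G) * c * (n : G)⁻¹) = (n : G) * c * (n : G)⁻¹ * d
    calc d * ((n : G) * c * (n : G)⁻¹) = n * ((n : G)⁻¹ * d * n * c) * (n : G)⁻¹ := by group
      _ = n * ((c : G) * ((n : G)⁻¹ * d * n)) * (n : G)⁻¹ := by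
          rw [show (n : G)⁻¹ * d * n * c = (c : G) * ((n : G)⁻¹ * d * n) from e]
      _ = _ := by group
  have hgC : ∀ x ∈ C, g * x * g⁻¹ ∈ C := fun x hx =>
    hCn.conj_mem ⟨x, centralizer_le_normalizer (D : Set G) hx⟩ hx ⟨g, hg⟩
  let R₁ : Subgroup C := (R.map (MulAut.conj g).toMonoidHom).subgroupOf C
  have hR1le : R.map (MulAut.conj g).toMonoidHom ≤ C := by
    rintro _ ⟨r, hr, rfl⟩
    exact hgC r (hRC hr)
  have hR1c : Nat.card R₁ = Nat.card (R₀ : Subgroup C) := by
    rw [Nat.card_congr (subgroupOfEquivOfLe hR1le).toEquiv,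
      Nat.card_congr ((equivMapOfInjective R _ (MulAut.conj g).injective).toEquiv.symm), hRdef,
      Nat.card_congr (equivMapOfInjective (R₀ : Subgroup C) _ C.subtype_injective).toEquiv.symm]
  let S₁ : Sylow 2 C := Sylow.ofCard R₁ (by rw [hR1c, R₀.card_eq_multiplicity])
  obtain ⟨c, hc⟩ := MulAction.exists_smul_eq C S₁ R₀
  set g₁ := (c : G) * g with hg1
  have hRimg : R.map (MulAut.conj g₁).toMonoidHom ≤ R := by
    rintro _ ⟨r, hr, rfl⟩
    have h1 : (⟨g * r * g⁻¹, hgC r (hRC hr)⟩ : C) ∈ (S₁ : Subgroup C) := ⟨r, hr, rfl⟩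
    have h2 : c * ⟨g * r * g⁻¹, hgC r (hRC hr)⟩ * c⁻¹ ∈ (R₀ : Subgroup C) := by
      rw [← hc]; exact ⟨_, h1, rfl⟩
    exact ⟨_, h2, by simp [hg1, mul_assoc]⟩
  have hg1D : g₁ ∈ normalizer (D : Set G) :=
    mul_mem (centralizer_le_normalizer (D : Set G) c.2) hg
  have hg1R : g₁ ∈ normalizer (R : Set G) := mem_normalizer_of_map_le hRimg
  have hact : ∀ x ∈ D, ∀ k : ℕ, g₁ ^ k * x * (g₁ ^ k)⁻¹ = g ^ k * x * (g ^ k)⁻¹ := by
    intro x hx k
    induction k with
    | zero => simp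
    | succ k ih =>
      have hw : g ^ k * x * (g ^ k)⁻¹ ∈ D := conj_mem_of_mem_normalizer (pow_mem hg k) hx
      have hgw : g * (g ^ k * x * (g ^ k)⁻¹) * g⁻¹ ∈ D := conj_mem_of_mem_normalizer hg hw
      have hcc : (c : G) * (g * (g ^ k * x * (g ^ k)⁻¹) * g⁻¹) * (c : G)⁻¹ =
          g * (g ^ k * x * (g ^ k)⁻¹) * g⁻¹ := mul_inv_eq_iff_eq_mul.mpr (c.2 _ hgw).symm
      calc g₁ ^ (k + 1) * x * (g₁ ^ (k + 1))⁻¹ = g₁ * (g₁ ^ k * x * (g₁ ^ k)⁻¹) * g₁⁻¹ := by
            rw [pow_succ']; simp [mul_assoc]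
        _ = (c : G) * (g * (g ^ k * x * (g ^ k)⁻¹) * g⁻¹) * (c : G)⁻¹ := by
            rw [ih, hg1]; simp [mul_assoc]
        _ = g * (g ^ k * x * (g ^ k)⁻¹) * g⁻¹ := hcc
        _ = g ^ (k + 1) * x * (g ^ (k + 1))⁻¹ := by rw [pow_succ']; simp [mul_assoc]
  set a := 2 ^ (orderOf g₁).factorization 2 with ha
  set g₂ := g₁ ^ a with hg2
  have hg2o : ¬ 2 ∣ orderOf g₂ := by
    rw [hg2, orderOf_pow_of_dvd (by positivity) (Nat.ordProj_dvd _ _)]
    exact Nat.not_dvd_ordCompl Nat.prime_two (orderOf_pos _).ne'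
  have hg2odd : Odd (orderOf g₂) := Nat.odd_iff.mpr (by omega)
  have hg2c : (orderOf g₂).Coprime 2 :=
    ((Nat.prime_two.coprime_iff_not_dvd).mpr hg2o).symm
  have hg2Q : g₂ ∈ normalizer ((D ⊔ R : Subgroup G) : Set G) := by
    refine pow_mem (mem_normalizer_of_map_le ?_) _
    rw [Subgroup.map_sup]
    refine sup_le_sup ?_ hRimg
    rintro _ ⟨x, hx, rfl⟩
    exact conj_mem_of_mem_normalizer hg1D hx
  have hg2ne : g₂ ∉ centralizer ((D ⊔ R : Subgroup G) : Set G) := by
    intro hh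
    refine hne ?_
    intro x hx
    have h1 : g ^ a * x * (g ^ a)⁻¹ = x := by
      rw [← hact x hx a]
      exact mul_inv_eq_iff_eq_mul.mpr (hh x (le_sup_left (a := D) (b := R) hx)).symm
    have h2 : Commute (g ^ a) x := mul_inv_eq_iff_eq_mul.mp h1
    obtain ⟨m, hm⟩ := exists_pow_eq_self_of_coprime
      (x := g) (n := a) (Nat.Coprime.pow_left _ hgo.symm)
    rw [← hm]
    exact ((h2.pow_left m).eq).symm
  have hle := two_mul_kP_le P (D ⊔ R) hP hg2Q hg2odd hg2c hg2ne (fun x hx hxQ => by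
    by_contra hh
    push Not at hh
    exact hxQ (le_sup_right (a := D) (b := R) (hcen x hx hh)))
  have hcard : Nat.card (P₀ : Subgroup G) = Nat.card (P : Subgroup G) := by
    rw [P₀.card_eq_multiplicity, P.card_eq_multiplicity]
  omega

/-- For odd `p` more than half gives an abelian Sylow subgroup. -/
theorem commute_of_half (hp2 : p ≠ 2) (P : Sylow p G)
    (hk : Nat.card (P : Subgroup G) < 2 * kP p G) :
    ∀ x ∈ (P : Subgroup G), ∀ y ∈ (P : Subgroup G), Commute x y := by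
  haveI := Fintype.ofFinite G
  by_contra hh
  push Not at hh
  obtain ⟨x, hx, y, hy, hxy⟩ := hh
  set Z := (P : Subgroup G) ⊓ centralizer ((P : Subgroup G) : Set G) with hZ
  have hp3 : 3 ≤ p := by have := hp.out.two_le; omega
  have hstep : ∀ A B : Subgroup G, A < B → B ≤ (P : Subgroup G) →
      3 * Nat.card A ≤ Nat.card B := by
    intro A B hAB hBP
    obtain ⟨i, hi⟩ := IsPGroup.iff_card.mp (P.2.to_le (hAB.le.trans hBP))
    obtain ⟨j, hj⟩ := IsPGroup.iff_card.mp (P.2.to_le hBP)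
    have hlt : p ^ i < p ^ j := by
      rw [← hi, ← hj]
      refine lt_of_le_of_ne (card_le_of_le hAB.le) fun e => hAB.ne (eq_of_le_of_card_ge hAB.le e.ge)
    rw [hi, hj]
    calc 3 * p ^ i ≤ p ^ (i + 1) := by rw [pow_succ']; exact Nat.mul_le_mul_right _ hp3
      _ ≤ p ^ j := Nat.pow_le_pow_right hp.out.pos ((Nat.pow_lt_pow_iff_right hp.out.one_lt).mp hlt)
  have h1 : Z < (P : Subgroup G) ⊓ centralizer ({x} : Set G) := by
    refine lt_of_le_not_ge (inf_le_inf_left _ (centralizer_le (Set.singleton_subset_iff.mpr hx))) fun h => ?_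
    exact hxy ((h ⟨hx, mem_centralizer_singleton_iff.mpr rfl⟩).2 y hy).symm
  have h2 : (P : Subgroup G) ⊓ centralizer ({x} : Set G) < (P : Subgroup G) := by
    refine lt_of_le_not_ge inf_le_left fun h => hxy ?_
    exact (mem_centralizer_singleton_iff.mp (h hy).2).symm
  have h9 := hstep _ _ h1 inf_le_left
  have h9' := hstep _ _ h2 le_rfl
  let f : G → ℕ := fun a => if a ∈ Z then 3 else 1
  have hmain := kP_mul_le P 3 f ?_
  · have hsum : (Finset.univ.filter (fun a => a ∈ (P : Subgroup G))).sum f =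
        Nat.card (P : Subgroup G) + 2 * Nat.card Z := by
      rw [← card_filter_mem (P : Subgroup G), ← card_filter_mem Z, Finset.card_eq_sum_ones,
        Finset.card_eq_sum_ones, Finset.mul_sum]
      have e : (Finset.univ.filter (fun a => a ∈ Z)) =
          (Finset.univ.filter (fun a => a ∈ (P : Subgroup G))).filter (fun a => a ∈ Z) := by
        ext a; simpa using fun h : a ∈ Z => (mem_inf.mp h).1
      rw [e, Finset.sum_filter (p := fun a => a ∈ Z), ← Finset.sum_add_distrib]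
      exact Finset.sum_congr rfl fun a _ => by by_cases h : a ∈ Z <;> simp [f, h]
    omega
  · intro a ha
    by_cases haZ : a ∈ Z
    · exact ⟨{a}, (fun y hy => by rw [Finset.mem_singleton] at hy; subst hy; exact ⟨ha, IsConj.refl _⟩), by simp [f, haZ]⟩
    · obtain ⟨b, hb, hba⟩ : ∃ b ∈ (P : Subgroup G), ¬ Commute b a := by
        by_contra! hc
        exact haZ ⟨ha, fun b hb => (hc b hb).eq⟩
      have hbo : Odd (orderOf b) := by
        obtain ⟨k, hk'⟩ := IsPGroup.iff_orderOf.mp P.2 ⟨b, hb⟩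
        rw [← orderOf_coe] at hk'
        rw [hk']
        exact (hp.out.odd_of_ne_two hp2).pow
      obtain ⟨S, hS3, hS⟩ := three_conj (le_normalizer hb) hbo ha hba
      refine ⟨S, hS, ?_⟩
      calc 3 = S.card • 1 := by rw [hS3]; rfl
        _ ≤ S.sum f := Finset.card_nsmul_le_sum _ _ _ fun c _ => by simp only [f]; split <;> omega

/-- For odd `p` more than half: elements of odd order prime to `p` centralize the Sylow subgroup. -/
theorem centralizes_of_half (hp2 : p ≠ 2) (P : Sylow p G)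
    (hk : Nat.card (P : Subgroup G) < 2 * kP p G) {g : G}
    (hg : g ∈ normalizer ((P : Subgroup G) : Set G)) (ho : Odd (orderOf g))
    (hc : (orderOf g).Coprime p) : g ∈ centralizer ((P : Subgroup G) : Set G) := by
  by_contra hne
  have := two_mul_kP_le P (P : Subgroup G) le_rfl hg ho hc hne (fun x hx hx' => absurd hx hx')
  omega

omit [Finite G] in
theorem exists_pPart_split {x : G} (hx : orderOf x ≠ 0) :
    ∃ u v : G, u * v = x ∧ Commute u v ∧ (∃ k, orderOf u = p ^ k) ∧ orderOf v ∣ orderOf x ∧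
      ¬ p ∣ orderOf v ∧ u ∈ zpowers x ∧ v ∈ zpowers x := by
  set n := orderOf x with hn
  set a := p ^ n.factorization p with ha
  set b := n / a with hb
  have hab : a * b = n := Nat.ordProj_mul_ordCompl_eq_self n p
  have hpb : ¬ p ∣ b := Nat.not_dvd_ordCompl hp.out hx
  have hco : a.Coprime b := Nat.Coprime.pow_left _ ((hp.out.coprime_iff_not_dvd).mpr hpb)
  have hbez := Nat.gcd_eq_gcd_ab a b
  rw [hco.gcd_eq_one, Nat.cast_one] at hbez
  refine ⟨x ^ ((b : ℤ) * Nat.gcdB a b), x ^ ((a : ℤ) * Nat.gcdA a b), ?_, ?_, ?_, ?_, ?_, ?_, ?_⟩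
  · rw [← zpow_add, add_comm, ← hbez, zpow_one]
  · exact Commute.zpow_zpow_self _ _ _
  · have h1 : (x ^ ((b : ℤ) * Nat.gcdB a b)) ^ a = 1 := by
      rw [← zpow_natCast, ← zpow_mul, mul_right_comm, ← Nat.cast_mul, mul_comm b a, hab, zpow_mul,
        zpow_natCast, pow_orderOf_eq_one, one_zpow]
    obtain ⟨k, -, hk⟩ := (Nat.dvd_prime_pow hp.out).mp (orderOf_dvd_of_pow_eq_one h1)
    exact ⟨k, hk⟩
  · exact orderOf_dvd_of_mem_zpowers ⟨_, rfl⟩
  · have h1 : (x ^ ((a : ℤ) * Nat.gcdA a b)) ^ b = 1 := by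
      rw [← zpow_natCast, ← zpow_mul, mul_right_comm, ← Nat.cast_mul, hab, zpow_mul,
        zpow_natCast, pow_orderOf_eq_one, one_zpow]
    exact fun h => hpb (h.trans (orderOf_dvd_of_pow_eq_one h1))
  · exact ⟨_, rfl⟩
  · exact ⟨_, rfl⟩

theorem kPi_insert_le {σ : Finset ℕ} {B : ℕ} (hB : ∀ C : Subgroup G, kPi σ C ≤ B) :
    kPi (insert p σ) G ≤ kP p G * B := by
  let A := {c : ConjClasses G // ∀ x ∈ c.carrier, ∃ k : ℕ, orderOf x = p ^ k}
  let rep : A → G := fun c => Quotient.out c.1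
  have hrep : ∀ c : A, ConjClasses.mk (rep c) = c.1 := fun c => Quotient.out_eq c.1
  let Bc : A → Type u := fun c =>
    {d : ConjClasses ↥(centralizer ({rep c} : Set G)) //
      ∀ x ∈ d.carrier, ∀ r : ℕ, r.Prime → r ∣ orderOf x → r ∈ σ}
  haveI := Fintype.ofFinite A
  haveI : ∀ c, Finite (Bc c) := fun c => Subtype.finite
  have hex : ∀ z : {c : ConjClasses G // ∀ x ∈ c.carrier, ∀ r : ℕ, r.Prime → r ∣ orderOf x →
      r ∈ insert p σ}, ∃ cd : (c : A) × Bc c,
        ConjClasses.mk (rep cd.1 * (Quotient.out cd.2.1 : ↥(centralizer ({rep cd.1} : Set G)))) =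
          z.1 := by
    intro z
    obtain ⟨x, hx⟩ := ConjClasses.mk_surjective z.1
    have hxπ := z.2 x (ConjClasses.mem_carrier_iff_mk_eq.mpr hx)
    obtain ⟨u, v, huv, hcomm, ⟨k, hk⟩, hvd, hvp, -, -⟩ :=
      exists_pPart_split (p := p) (orderOf_pos x).ne'
    let c : A := ⟨ConjClasses.mk u, fun y hy => by
      obtain ⟨t, rfl⟩ := isConj_iff.mp
        (ConjClasses.mk_eq_mk_iff_isConj.mp (ConjClasses.mem_carrier_iff_mk_eq.mp hy).symm)
      exact ⟨k, by rw [← MulAut.conj_apply, MulEquiv.orderOf_eq, hk]⟩⟩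
    obtain ⟨t, ht⟩ := isConj_iff.mp (ConjClasses.mk_eq_mk_iff_isConj.mp (hrep c)).symm
    have hv' : t * v * t⁻¹ ∈ centralizer ({rep c} : Set G) := by
      rw [mem_centralizer_singleton_iff, ← ht]
      simpa [mul_assoc] using congrArg (fun w => t * w * t⁻¹) hcomm.eq.symm
    let d : Bc c := ⟨ConjClasses.mk ⟨t * v * t⁻¹, hv'⟩, fun y hy r hr hry => by
      obtain ⟨s, rfl⟩ := isConj_iff.mp
        (ConjClasses.mk_eq_mk_iff_isConj.mp (ConjClasses.mem_carrier_iff_mk_eq.mp hy).symm)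
      rw [← MulAut.conj_apply, MulEquiv.orderOf_eq, ← orderOf_coe] at hry
      change r ∣ orderOf (t * v * t⁻¹) at hry
      rw [← MulAut.conj_apply, MulEquiv.orderOf_eq] at hry
      rcases Finset.mem_insert.mp (hxπ r hr (hry.trans hvd)) with rfl | h
      · exact absurd hry hvp
      · exact h⟩
    refine ⟨⟨c, d⟩, ?_⟩
    rw [← hx, ConjClasses.mk_eq_mk_iff_isConj, isConj_comm]
    obtain ⟨w, hw⟩ := isConj_iff.mp
      (ConjClasses.mk_eq_mk_iff_isConj.mp (Quotient.out_eq d.1).symm)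
    refine isConj_iff.mpr ⟨(w : G) * t, ?_⟩
    have hw' : (w : G) * (t * v * t⁻¹) * (w : G)⁻¹ =
        ((Quotient.out d.1 : ↥(centralizer ({rep c} : Set G))) : G) := congrArg Subtype.val hw
    have hwc : (w : G) * rep c * (w : G)⁻¹ = rep c :=
      mul_inv_eq_iff_eq_mul.mpr (mem_centralizer_singleton_iff.mp w.2)
    show (w : G) * t * x * ((w : G) * t)⁻¹ =
      rep c * ((Quotient.out d.1 : ↥(centralizer ({rep c} : Set G))) : G)
    have ht' : t * u * t⁻¹ = rep c := ht
    calc (w : G) * t * x * ((w : G) * t)⁻¹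
        = ((w : G) * (t * u * t⁻¹) * (w : G)⁻¹) * ((w : G) * (t * v * t⁻¹) * (w : G)⁻¹) := by
          rw [← huv]; simp [mul_assoc]
      _ = _ := by rw [ht', hwc, hw']
  choose φ hφ using hex
  have hinj : Function.Injective φ := fun a b e => Subtype.ext (by rw [← hφ a, ← hφ b, e])
  calc kPi (insert p σ) G ≤ Nat.card ((c : A) × Bc c) := Nat.card_le_card_of_injective φ hinj
    _ = ∑ c : A, Nat.card (Bc c) := Nat.card_sigma
    _ ≤ ∑ _c : A, B := Finset.sum_le_sum fun c _ => hB _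
    _ = kP p G * B := by
        rw [Finset.sum_const, Finset.card_univ, smul_eq_mul, kP, Nat.card_eq_fintype_card]

omit hp in
theorem kPi_le (π : Finset ℕ) (hπ : ∀ r ∈ π, r.Prime) :
    ∀ (H : Type u) [Group H] [Finite H],
      kPi π H ≤ π.prod (fun r => r ^ (Nat.card H).factorization r) := by
  induction π using Finset.induction_on with
  | empty =>
    intro H _ _
    rw [Finset.prod_empty, kPi, Finite.card_le_one_iff_subsingleton]
    constructor
    rintro ⟨c, hc⟩ ⟨d, hd⟩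
    refine Subtype.ext ?_
    obtain ⟨x, rfl⟩ := ConjClasses.mk_surjective c
    obtain ⟨y, rfl⟩ := ConjClasses.mk_surjective d
    have h1 : ∀ z : H, (∀ r : ℕ, r.Prime → r ∣ orderOf z → r ∈ (∅ : Finset ℕ)) → z = 1 :=
      fun z hz => orderOf_eq_one_iff.mp (Nat.eq_one_iff_not_exists_prime_dvd.mpr
        fun r hr h => Finset.notMem_empty r (hz r hr h))
    show ConjClasses.mk x = ConjClasses.mk y
    rw [h1 x (hc x ConjClasses.mem_carrier_mk), h1 y (hd y ConjClasses.mem_carrier_mk)]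
  | insert q σ hq ih =>
    intro H _ _
    haveI : Fact q.Prime := ⟨hπ q (Finset.mem_insert_self q σ)⟩
    have ih' := ih (fun r hr => hπ r (Finset.mem_insert_of_mem hr))
    rw [Finset.prod_insert hq]
    refine (kPi_insert_le (B := σ.prod (fun r => r ^ (Nat.card H).factorization r))
      fun C => (ih' C).trans ?_).trans (Nat.mul_le_mul_right _ ?_)
    · refine Finset.prod_le_prod' fun r hr => Nat.pow_le_pow_right
        (hπ r (Finset.mem_insert_of_mem hr)).pos ?_
      exact (Nat.factorization_le_iff_dvd Nat.card_pos.ne' Nat.card_pos.ne').mpr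
        (card_subgroup_dvd_card C) r
    · have hle := kP_le (default : Sylow q H)
      rwa [Sylow.card_eq_multiplicity] at hle

/-- More than half for `π` gives more than half for each prime in `π`. -/
theorem half_of_half {π : Finset ℕ} (hπ : ∀ r ∈ π, r.Prime) (hpπ : p ∈ π)
    (hk : π.prod (fun r => r ^ (Nat.card G).factorization r) < 2 * kPi π G) (P : Sylow p G) :
    Nat.card (P : Subgroup G) < 2 * kP p G := by
  set B := (π.erase p).prod (fun r => r ^ (Nat.card G).factorization r)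
  have hB : ∀ C : Subgroup G, kPi (π.erase p) C ≤ B := fun C =>
    (kPi_le _ (fun r hr => hπ r (Finset.mem_of_mem_erase hr)) C).trans
      (Finset.prod_le_prod' fun r hr => Nat.pow_le_pow_right
        (hπ r (Finset.mem_of_mem_erase hr)).pos
        ((Nat.factorization_le_iff_dvd Nat.card_pos.ne' Nat.card_pos.ne').mpr
          (card_subgroup_dvd_card C) r))
  have h1 := kPi_insert_le (p := p) hB
  rw [Finset.insert_erase hpπ] at h1
  rw [← Finset.mul_prod_erase π _ hpπ, ← P.card_eq_multiplicity] at hk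
  refine Nat.lt_of_mul_lt_mul_right (a := B) (hk.trans_le ?_)
  rw [mul_assoc]
  exact Nat.mul_le_mul_left 2 h1

/-- `k_p(G) ≤ k(P)`. -/
theorem kP_le_classes (P : Sylow p G) : kP p G ≤ Nat.card (ConjClasses ↥(P : Subgroup G)) := by
  choose x hxP hxc using exists_rep_mem_sylow P
  refine Nat.card_le_card_of_injective (fun c => ConjClasses.mk (⟨x c, hxP c⟩ : (P : Subgroup G)))
    fun a b e => Subtype.ext ?_
  rw [← hxc a, ← hxc b]
  exact congrArg (ConjClasses.map (P : Subgroup G).subtype) e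

/-- With a normal complement no two classes of `P` fuse. -/
theorem classes_le_kP (P : Sylow p G) {N : Subgroup G} [N.Normal]
    (hN : N.IsComplement' (P : Subgroup G)) :
    Nat.card (ConjClasses ↥(P : Subgroup G)) ≤ kP p G := by
  have hord : ∀ d : ConjClasses ↥(P : Subgroup G),
      ∀ x ∈ (ConjClasses.map (P : Subgroup G).subtype d).carrier, ∃ k : ℕ, orderOf x = p ^ k := by
    intro d x hx
    obtain ⟨y, rfl⟩ := ConjClasses.mk_surjective d
    obtain ⟨k, hk⟩ := IsPGroup.iff_orderOf.mp P.2 y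
    obtain ⟨t, ht⟩ := isConj_iff.mp
      (ConjClasses.mk_eq_mk_iff_isConj.mp (ConjClasses.mem_carrier_iff_mk_eq.mp hx).symm)
    refine ⟨k, ?_⟩
    rw [← ht, ← MulAut.conj_apply, MulEquiv.orderOf_eq, Subgroup.coe_subtype, orderOf_coe, hk]
  refine Nat.card_le_card_of_injective
    (fun d => (⟨ConjClasses.map (P : Subgroup G).subtype d, hord d⟩ :
      {c : ConjClasses G // ∀ x ∈ c.carrier, ∃ k : ℕ, orderOf x = p ^ k})) fun a b e => ?_
  have e' := congrArg Subtype.val e
  obtain ⟨x, rfl⟩ := ConjClasses.mk_surjective a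
  obtain ⟨y, rfl⟩ := ConjClasses.mk_surjective b
  obtain ⟨g, hg⟩ := isConj_iff.mp (ConjClasses.mk_eq_mk_iff_isConj.mp e')
  obtain ⟨n, hn, h, hh, rfl⟩ :=
    (mem_sup_of_normal_left (s := N) (t := (P : Subgroup G))).mp (hN.sup_eq_top ▸ mem_top g)
  refine ConjClasses.mk_eq_mk_iff_isConj.mpr (isConj_iff.mpr ⟨⟨h, hh⟩, ?_⟩)
  set z := (⟨h, hh⟩ * x * ⟨h, hh⟩⁻¹ : (P : Subgroup G)) with hz
  have hg' : n * (z : G) * n⁻¹ = (y : G) := by
    rw [← show n * h * (x : G) * (n * h)⁻¹ = (y : G) from hg]; simp [hz, mul_assoc]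
  have h1 : (z : G)⁻¹ * y ∈ N := by
    rw [← hg']
    have := N.mul_mem (Normal.conj_mem ‹N.Normal› n hn (z : G)⁻¹) (N.inv_mem hn)
    simpa [mul_assoc] using this
  have h2 : (z : G)⁻¹ * y ∈ N ⊓ (P : Subgroup G) := ⟨h1, (P : Subgroup G).mul_mem ((P : Subgroup G).inv_mem z.2) y.2⟩
  rw [hN.disjoint.eq_bot, mem_bot, inv_mul_eq_one] at h2
  exact Subtype.ext h2

end Cfsg.Agent.Classes23
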