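import Cfsg.Agent.Lib.Classes23.EigenDim
import Cfsg.Agent.Lib.Classes23.CentPartition
import Cfsg.Agent.Lib.Classes23.PiClasses

/-!
# Fixed points of `X` on faithful modules for `XQ`
-/

set_option autoImplicit false
set_option linter.style.haveILetI false
set_option linter.unusedSectionVars false
set_option maxHeartbeats 800000

namespace Cfsg.Agent.Classes23

open Subgroup Cfsg
open scoped Classical commutatorElement IsMulCommutative TensorProduct

universe u

variable {G : Type u} [Group G] [Finite G]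

/-- An abelian subgroup as an additive group with the conjugation action. -/
def actEnd (V : Subgroup G) [IsMulCommutative V] (p : ℕ) [Module (ZMod p) (Additive V)] :
    normalizer (V : Set G) →* Module.End (ZMod p) (Additive V) where
  toFun g := (AddMonoidHom.mk' (fun v : Additive V => Additive.ofMul (cmap V g v.toMul))
    (fun a b => congrArg Additive.ofMul (a₂ := cmap V g a.toMul * cmap V g b.toMul)
      (Subtype.ext (by simp [cmap, mul_assoc])))).toZModLinearMap p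
  map_one' := LinearMap.ext fun v => congrArg Additive.ofMul (cmap_one V v.toMul)
  map_mul' g h := LinearMap.ext fun v => congrArg Additive.ofMul (cmap_mul V g h v.toMul)

/-- Extension of scalars, keeping faithfulness and fixed-point-freeness. -/
theorem exists_closure_rep {p : ℕ} {k : Type} [Field k] [Algebra (ZMod p) k] (hp : p.Prime)
    {H : Type u} [Monoid H] {M : Type u} [AddCommGroup M] [Module (ZMod p) M] [Finite M]
    (ψ : H →* Module.End (ZMod p) M) :
    ∃ (W : Type u) (_ : AddCommGroup W) (_ : Module k W) (_ : FiniteDimensional k W)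
      (φ : H →* Module.End k W), (∀ h, φ h = 1 → ψ h = 1) ∧
        ∀ h, (∀ w, ψ h w = w → w = 0) → ∀ w, φ h w = w → w = 0 := by
  haveI := Fact.mk hp
  haveI : Module.Finite (ZMod p) M := Module.Finite.of_finite
  obtain ⟨n, ⟨e⟩⟩ : ∃ n : ℕ, Nonempty (M ≃ₗ[ZMod p] (Fin n → ZMod p)) :=
    ⟨_, ⟨(Module.finBasis (ZMod p) M).equivFun⟩⟩
  let T : Module.End (ZMod p) M →* Matrix (Fin n) (Fin n) (ZMod p) :=
    { toFun := fun f => LinearMap.toMatrix' (e.conj f)
      map_one' := by simp [Module.End.one_eq_id]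
      map_mul' := fun f g => by
        rw [← LinearMap.toMatrix'_mul]
        congr 1
        exact LinearMap.ext fun v => by simp [LinearEquiv.conj_apply] }
  let ψ' := T.comp ψ
  let φ₀ : H →* Module.End k (Fin n → k) :=
    ((Matrix.toLinAlgEquiv' : Matrix (Fin n) (Fin n) k ≃ₐ[k] Module.End k (Fin n → k)) :
      Matrix (Fin n) (Fin n) k →* Module.End k (Fin n → k)).comp
      (((algebraMap (ZMod p) k).mapMatrix : _ →+* Matrix (Fin n) (Fin n) k).toMonoidHom.comp ψ')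
  let eu : (Fin n → k) ≃ₗ[k] ULift.{u} (Fin n → k) := ULift.moduleEquiv.symm
  refine ⟨ULift.{u} (Fin n → k), inferInstance, inferInstance, inferInstance,
    { toFun := fun h => eu.conj (φ₀ h)
      map_one' := by rw [map_one]; exact LinearMap.ext fun v => by simp [LinearEquiv.conj_apply]
      map_mul' := fun a b => by
        rw [map_mul]; exact LinearMap.ext fun v => by simp [LinearEquiv.conj_apply] }, ?_, ?_⟩
  · intro h hh
    have h1 : φ₀ h = 1 := LinearMap.ext fun v => by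
      have := LinearMap.congr_fun hh (eu v)
      simpa [LinearEquiv.conj_apply] using this
    have h2 : ((algebraMap (ZMod p) k).mapMatrix (ψ' h)) = 1 := Matrix.toLinAlgEquiv'.injective (by
      rw [map_one]; exact h1)
    have h3 : ψ' h = 1 := Matrix.map_injective (algebraMap (ZMod p) k).injective
      (h2.trans (map_one (algebraMap (ZMod p) k).mapMatrix).symm)
    refine LinearMap.ext fun v => e.injective ?_
    have h4 : e.conj (ψ h) = LinearMap.id := LinearMap.toMatrix'.injective (by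
      rw [LinearMap.toMatrix'_id]; exact h3)
    simpa [LinearEquiv.conj_apply] using LinearMap.congr_fun h4 (e v)
  · intro h hfix w hw
    have hdet : (ψ' h - 1).det ≠ 0 := by
      intro hd
      obtain ⟨v, hv0, hv⟩ := Matrix.exists_mulVec_eq_zero_iff.mpr hd
      apply hv0
      rw [Matrix.sub_mulVec, Matrix.one_mulVec, sub_eq_zero] at hv
      have h1 : e (ψ h (e.symm v)) = v := by
        have : (LinearMap.toMatrix' (e.conj (ψ h))).mulVec v = v := hv
        rw [LinearMap.toMatrix'_mulVec] at this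
        simpa [LinearEquiv.conj_apply] using this
      have h2 := hfix (e.symm v) (e.injective (by simpa using h1))
      simpa using h2
    have hv : φ₀ h (eu.symm w) = eu.symm w := by
      have := congrArg eu.symm hw
      simpa [LinearEquiv.conj_apply] using this
    have hdet' : (((algebraMap (ZMod p) k).mapMatrix (ψ' h)) - 1).det ≠ 0 := by
      rw [← map_one (algebraMap (ZMod p) k).mapMatrix, ← map_sub, ← RingHom.map_det]
      exact (map_ne_zero _).mpr hdet
    by_contra hw0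
    apply hdet'
    refine Matrix.exists_mulVec_eq_zero_iff.mp ⟨eu.symm w, fun h0 => hw0 ?_, ?_⟩
    · simpa using congrArg eu h0
    · rw [Matrix.sub_mulVec, Matrix.one_mulVec, sub_eq_zero]
      exact hv

theorem extraspecial_bound_aux {p q r : ℕ} {k : Type} [Field k] [IsAlgClosed k]
    [Algebra (ZMod p) k] {W : Type u} [AddCommGroup W] [Module k W] [FiniteDimensional k W]
    (hp : p.Prime) (hq : q.Prime) (hr : r.Prime) (hpq : p ≠ q)
    (hpr : p ≠ r) (x : G) (hx : x ^ r = 1) (Q H Cc : Subgroup G) (hQ : IsPGroup q Q)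
    (φ : H →* Module.End k W) (hxV : x ∈ H)
    (hQV : Q ≤ H) (hxQ : x ∈ normalizer (Q : Set G)) (hCQ : Cc ≤ Q)
    (hcc : ∀ c ∈ Cc, ∀ v ∈ Q, Commute c v) (hcx : ∀ c ∈ Cc, Commute x c)
    (hcomm : ∀ a ∈ Q, ∀ b ∈ Q, ⁅a, b⁆ ∈ Cc)
    (hfpf : ∀ v ∈ Q, v⁻¹ * (x * v * x⁻¹) ∈ Cc → v ∈ Cc)
    (hd : ∃ a, ∃ ha : a ∈ Q, ∃ b, ∃ hb : b ∈ Q,
      φ ⟨⁅a, b⁆, hQV (hCQ (hcomm a ha b hb))⟩ ≠ 1)
    (hrad : ∀ K : Subgroup G, K ≤ Cc → (∃ a ∈ Q, ∃ b ∈ Q, ⁅a, b⁆ ∉ K) →
      ∀ v ∈ Q, (∀ b ∈ Q, ⁅v, b⁆ ∈ K) → v ∈ Cc)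
    (hCV : ∀ w, φ ⟨x, hxV⟩ w = w → w = 0) :
    q = 2 ∧ ∃ n : ℕ, r = 2 ^ n + 1 ∧ Nat.card Q = Nat.card Cc * 2 ^ (2 * n) := by
  haveI := Fact.mk hq
  haveI : CharP k p := by
    haveI := Fact.mk hp
    exact charP_of_injective_algebraMap (algebraMap (ZMod p) k).injective p
  have hcastne : ∀ n : ℕ, ¬ p ∣ n → (n : k) ≠ 0 := fun n hn h => hn ((CharP.cast_eq_zero_iff k p n).mp h)
  obtain ⟨e, he⟩ := IsPGroup.iff_card.mp hQ
  have hQk : (Nat.card Q : k) ≠ 0 := by
    rw [he]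
    exact hcastne _ fun h => hpq ((Nat.prime_dvd_prime_iff_eq hp hq).mp (hp.dvd_of_dvd_pow h))
  have hrk : (r : k) ≠ 0 := hcastne _ fun h => hpr ((Nat.prime_dvd_prime_iff_eq hp hr).mp h)
  let ι : Q →* H := Subgroup.inclusion hQV
  let x' : H := ⟨x, hxV⟩
  -- a commutator acting nontrivially
  obtain ⟨a₀, ha₀, b₀, hb₀, hd₁⟩ := hd
  set d : Q := ⟨⁅a₀, b₀⁆, hCQ (hcomm a₀ ha₀ b₀ hb₀)⟩ with hddef
  have hdC : (d : G) ∈ Cc := hcomm a₀ ha₀ b₀ hb₀
  have hd1 : φ (ι d) ≠ 1 := hd₁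
  have hd_pow : φ (ι d) ^ Nat.card Q = 1 := by
    rw [← map_pow, ← map_pow, pow_card_eq_one', map_one, map_one]
  -- an eigenvector with eigenvalue different from one
  obtain ⟨ω, hω1, w₀, hw₀, hw₀d⟩ : ∃ ω : k, ω ≠ 1 ∧ ∃ w : W, w ≠ 0 ∧ φ (ι d) w = ω • w := by
    let U0 := LinearMap.range (φ (ι d) - 1)
    haveI : Nontrivial U0 := Submodule.nontrivial_iff_ne_bot.mpr fun h => hd1 (by
      rw [LinearMap.range_eq_bot, sub_eq_zero] at h; exact h)
    have hinv : ∀ w ∈ U0, φ (ι d) w ∈ U0 := by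
      rintro _ ⟨u, rfl⟩
      exact ⟨φ (ι d) u, by simp [LinearMap.sub_apply]⟩
    obtain ⟨ω, hω⟩ := Module.End.exists_eigenvalue ((φ (ι d)).restrict hinv)
    obtain ⟨⟨w, hw⟩, hwv⟩ := hω.exists_hasEigenvector
    have hwd : φ (ι d) w = ω • w := congrArg Subtype.val hwv.apply_eq_smul
    have hw1 : w ≠ 0 := fun h => hwv.2 (Subtype.ext h)
    refine ⟨ω, ?_, w, hw1, hwd⟩
    rintro rfl
    rw [one_smul] at hwd
    obtain ⟨u, hu⟩ := hw
    apply hw1
    have h1 : ∀ i : ℕ, (φ (ι d) ^ i) w = w := fun i => by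
      induction i with
      | zero => simp
      | succ i ih => rw [pow_succ, Module.End.mul_apply, hwd, ih]
    have h2 : (∑ i ∈ Finset.range (Nat.card Q), φ (ι d) ^ i) w = 0 := by
      rw [← hu, ← Module.End.mul_apply, geom_sum_mul, hd_pow, sub_self, LinearMap.zero_apply]
    rw [LinearMap.sum_apply, Finset.sum_congr rfl fun i _ => h1 i, Finset.sum_const,
      Finset.card_range, ← Nat.cast_smul_eq_nsmul k, smul_eq_zero] at h2
    exact h2.resolve_left hQk
  -- a minimal invariant subspace of the eigenspace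
  let Inv : Submodule k W → Prop := fun U => U ≠ ⊥ ∧ (∀ w ∈ U, φ (ι d) w = ω • w) ∧
    (∀ (v : Q), ∀ w ∈ U, φ (ι v) w ∈ U) ∧ ∀ w ∈ U, φ x' w ∈ U
  have hcommφ : ∀ (c : Q) (g : H), Commute (c : G) (g : G) → ∀ w,
      φ (ι c) (φ g w) = φ g (φ (ι c) w) := by
    intro c g h w
    rw [← Module.End.mul_apply, ← Module.End.mul_apply, ← map_mul, ← map_mul]
    congr 2
    exact Subtype.ext h.eq
  have hex : Inv (Module.End.eigenspace (φ (ι d)) ω) := by
    refine ⟨fun h => hw₀ ?_, fun w hw => Module.End.mem_eigenspace_iff.mp hw, ?_, ?_⟩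
    · have : w₀ ∈ Module.End.eigenspace (φ (ι d)) ω := Module.End.mem_eigenspace_iff.mpr hw₀d
      simpa [h] using this
    · intro v w hw
      rw [Module.End.mem_eigenspace_iff] at hw ⊢
      rw [hcommφ d (ι v) (hcc _ hdC v v.2), hw, map_smul]
    · intro w hw
      rw [Module.End.mem_eigenspace_iff] at hw ⊢
      rw [hcommφ d x' (hcx _ hdC).symm, hw, map_smul]
  obtain ⟨U, hU, hUmin⟩ : ∃ U, Inv U ∧ ∀ U', Inv U' → Module.finrank k U ≤ Module.finrank k U' := by
    have h1 : ∃ m, ∃ U, Inv U ∧ Module.finrank k U = m := ⟨_, _, hex, rfl⟩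
    obtain ⟨U, hU, hUm⟩ := Nat.find_spec h1
    exact ⟨U, hU, fun U' hU' => hUm ▸ Nat.find_min' h1 ⟨U', hU', rfl⟩⟩
  obtain ⟨hUne, hUd, hUQ, hUx⟩ := hU
  haveI : Nontrivial U := Submodule.nontrivial_iff_ne_bot.mpr hUne
  let ρ : Q →* Module.End k U :=
    { toFun := fun v => (φ (ι v)).restrict (hUQ v)
      map_one' := LinearMap.ext fun w => Subtype.ext (by simp)
      map_mul' := fun a b => LinearMap.ext fun w => Subtype.ext (by simp) }
  let X : Module.End k U := (φ x').restrict hUx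
  have hscalar : ∀ c : Q, (c : G) ∈ Cc → ∃ a : k, ρ c = a • 1 := by
    intro c hc
    obtain ⟨a, ha⟩ := Module.End.exists_eigenvalue (ρ c)
    obtain ⟨w, hwv⟩ := ha.exists_hasEigenvector
    let U' : Submodule k W := U ⊓ Module.End.eigenspace (φ (ι c)) a
    have hU'le : U' ≤ U := inf_le_left
    have hU' : Inv U' := by
      refine ⟨fun h => hwv.2 (Subtype.ext ?_), fun w hw => hUd w hw.1, ?_, ?_⟩
      · have : (w : W) ∈ U' := ⟨w.2, Module.End.mem_eigenspace_iff.mpr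
          (congrArg Subtype.val hwv.apply_eq_smul)⟩
        simpa [h] using this
      · rintro v w ⟨hw1, hw2⟩
        refine ⟨hUQ v w hw1, ?_⟩
        rw [SetLike.mem_coe, Module.End.mem_eigenspace_iff] at hw2 ⊢
        rw [hcommφ c (ι v) (hcc _ hc v v.2), hw2, map_smul]
      · rintro w ⟨hw1, hw2⟩
        refine ⟨hUx w hw1, ?_⟩
        rw [SetLike.mem_coe, Module.End.mem_eigenspace_iff] at hw2 ⊢
        rw [hcommφ c x' (hcx _ hc).symm, hw2, map_smul]
    have heq := Submodule.eq_of_le_of_finrank_le hU'le (hUmin U' hU')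
    refine ⟨a, LinearMap.ext fun w => Subtype.ext ?_⟩
    exact Module.End.mem_eigenspace_iff.mp (heq.ge w.2).2
  -- the radical
  let K : Subgroup G := (ρ.ker ⊓ Cc.subgroupOf Q).map Q.subtype
  have hKC : K ≤ Cc := by rintro _ ⟨c, hc, rfl⟩; exact hc.2
  have hdK : ⁅a₀, b₀⁆ ∉ K := by
    rintro ⟨c, hc, he⟩
    have hcd : c = d := Subtype.ext he
    subst hcd
    obtain ⟨w, hw1⟩ := exists_ne (0 : U)
    apply hω1
    have h1 : φ (ι d) w = w := congrArg Subtype.val (LinearMap.congr_fun hc.1 w)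
    rw [hUd w w.2] at h1
    by_contra hne
    apply hw1
    refine Subtype.ext ?_
    have h2 : (ω - 1) • (w : W) = 0 := by rw [sub_smul, one_smul, h1, sub_self]
    exact (smul_eq_zero.mp h2).resolve_left (sub_ne_zero.mpr hne)
  let σ : Q ≃* Q :=
    { toFun := fun v => ⟨x * v * x⁻¹, (mem_normalizer_iff.mp hxQ v).mp v.2⟩
      invFun := fun v => ⟨x⁻¹ * v * x, (mem_normalizer_iff''.mp hxQ v).mp v.2⟩
      left_inv := fun v => Subtype.ext (by simp [mul_assoc])
      right_inv := fun v => Subtype.ext (by simp [mul_assoc])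
      map_mul' := fun a b => Subtype.ext (by simp [mul_assoc]) }
  have hσit : ∀ (n : ℕ) (v : Q), ((σ^[n] v : Q) : G) = x ^ n * v * (x ^ n)⁻¹ := by
    intro n v
    induction n with
    | zero => simp
    | succ n ih =>
      rw [Function.iterate_succ_apply', pow_succ']
      show x * ((σ^[n] v : Q) : G) * x⁻¹ = _
      rw [ih]; simp [mul_assoc]
  have hσρ : ∀ v, X * ρ v = ρ (σ v) * X := by
    intro v
    refine LinearMap.ext fun w => Subtype.ext ?_
    show φ x' (φ (ι v) w) = φ (ι (σ v)) (φ x' w)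
    rw [← Module.End.mul_apply, ← Module.End.mul_apply, ← map_mul, ← map_mul]
    congr 2
    refine Subtype.ext ?_
    show x * (v : G) = x * v * x⁻¹ * x
    simp
  have hXr : X ^ r = 1 := by
    refine LinearMap.ext fun w => Subtype.ext ?_
    rw [Module.End.pow_restrict r, LinearMap.restrict_coe_apply, ← map_pow,
      show x' ^ r = 1 from Subtype.ext hx, map_one]
    rfl
  have hXfix : ∀ w, X w = w → w = 0 := by
    intro w hw
    have h1 : φ x' (w : W) = w := congrArg Subtype.val hw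
    exact Subtype.ext (hCV _ h1)
  have hσr : ∀ v, σ^[r] v = v := fun v => Subtype.ext (by rw [hσit, hx]; simp)
  have hnd : ∀ v : Q, v ∉ Cc.subgroupOf Q → ∃ b : Q, ρ ⁅v, b⁆ ≠ 1 := by
    intro v hv
    by_contra! hb
    refine hv (hrad K hKC ⟨a₀, ha₀, b₀, hb₀, hdK⟩ v v.2 fun b hb' => ?_)
    exact ⟨⁅v, ⟨b, hb'⟩⁆, ⟨hb _, hcomm _ v.2 _ hb'⟩, rfl⟩
  obtain ⟨M, hM, hMr, hrd, hMd⟩ := bound_of_fpf hr hrk hQk ρ σ X hXr hXfix hσρ hσr
    (Cc.subgroupOf Q) (fun v hv => by
      show x * (v : G) * x⁻¹ ∈ Cc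
      rw [show x * (v : G) * x⁻¹ = v from mul_inv_eq_iff_eq_mul.mpr (hcx _ hv).eq]
      exact hv)
    (fun v hv => hscalar v hv) (fun a b => hcomm a a.2 b b.2) hnd
    (fun v hv => hfpf v v.2 hv)
  rw [he] at hMd
  obtain ⟨n, -, rfl⟩ := (Nat.dvd_prime_pow hq).mp hMd
  have hM1 : 1 < q ^ n := by
    by_contra h
    have h1 : (Cc.subgroupOf Q).index = 1 := by
      rw [hM, show q ^ n = 1 from le_antisymm (not_lt.mp h) (Nat.one_le_pow _ _ hq.pos), one_pow]
    rw [index_eq_one, subgroupOf_eq_top] at h1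
    apply hd1
    have h2 : d = 1 := Subtype.ext (commutatorElement_eq_one_iff_commute.mpr (hcc _ (h1 ha₀) _ hb₀))
    rw [h2, map_one, map_one]
  rw [hM, show (q ^ n) ^ 2 - 1 = (q ^ n + 1) * (q ^ n - 1) from by
    have := Nat.sq_sub_sq (q ^ n) 1; simpa using this] at hrd
  have hrn : r = q ^ n + 1 := by
    rcases hr.dvd_mul.mp hrd with h | h
    · exact le_antisymm (Nat.le_of_dvd (Nat.succ_pos _) h) (by omega)
    · have := Nat.le_of_dvd (by omega) h; omega
  have hq2 : q = 2 := by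
    rcases hq.eq_two_or_odd' with h | h
    · exact h
    · exfalso
      have h1 : Even r := hrn ▸ (h.pow).add_one
      have := (Nat.Prime.even_iff hr).mp h1
      omega
  subst hq2
  refine ⟨rfl, n, hrn, ?_⟩
  rw [← card_mul_index (Cc.subgroupOf Q), hM,
    Nat.card_congr (subgroupOfEquivOfLe hCQ).toEquiv, ← pow_mul, mul_comm n 2]

theorem extraspecial_bound {p q r : ℕ} (hp : p.Prime) (hq : q.Prime) (hr : r.Prime) (hpq : p ≠ q)
    (hpr : p ≠ r) (x : G) (hx : x ^ r = 1) (Q V Cc : Subgroup G) (hQ : IsPGroup q Q)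
    (hV : Cfsg.IsElementaryAbelian p V) (hxV : x ∈ normalizer (V : Set G))
    (hQV : Q ≤ normalizer (V : Set G)) (hxQ : x ∈ normalizer (Q : Set G)) (hCQ : Cc ≤ Q)
    (hcc : ∀ c ∈ Cc, ∀ v ∈ Q, Commute c v) (hcx : ∀ c ∈ Cc, Commute x c)
    (hcomm : ∀ a ∈ Q, ∀ b ∈ Q, ⁅a, b⁆ ∈ Cc)
    (hfpf : ∀ v ∈ Q, v⁻¹ * (x * v * x⁻¹) ∈ Cc → v ∈ Cc)
    (hd : ∃ a ∈ Q, ∃ b ∈ Q, ∃ v ∈ V, ¬ Commute ⁅a, b⁆ v)
    (hrad : ∀ K : Subgroup G, K ≤ Cc → (∃ a ∈ Q, ∃ b ∈ Q, ⁅a, b⁆ ∉ K) →
      ∀ v ∈ Q, (∀ b ∈ Q, ⁅v, b⁆ ∈ K) → v ∈ Cc)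
    (hCV : ∀ v ∈ V, Commute x v → v = 1) :
    q = 2 ∧ ∃ n : ℕ, r = 2 ^ n + 1 ∧ Nat.card Q = Nat.card Cc * 2 ^ (2 * n) := by
  haveI := hV.1
  letI : Module (ZMod p) (Additive V) := AddCommGroup.zmodModule (fun v => by
    rw [← ofMul_toMul v, ← ofMul_pow]
    exact congrArg Additive.ofMul (Subtype.ext (hV.2 v.toMul.1 v.toMul.2)))
  haveI := Fact.mk hp
  obtain ⟨W, _, _, _, φ, hφd, hφx⟩ :=
    exists_closure_rep (k := AlgebraicClosure (ZMod p)) hp (actEnd V p)
  obtain ⟨a, ha, b, hb, v, hv, hne⟩ := hd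
  refine extraspecial_bound_aux hp hq hr hpq hpr x hx Q _ Cc hQ φ hxV hQV hxQ hCQ hcc hcx hcomm
    hfpf ⟨a, ha, b, hb, fun h => hne ?_⟩ hrad (hφx _ fun w hw => ?_)
  · have h1 := LinearMap.congr_fun (hφd _ h) (Additive.ofMul (⟨v, hv⟩ : V))
    exact mul_inv_eq_iff_eq_mul.mp (congrArg Subtype.val (Additive.ofMul.injective h1))
  · have h3 : x * (w.toMul : G) * x⁻¹ = w.toMul := congrArg Subtype.val (Additive.ofMul.injective hw)
    have h4 := hCV _ w.toMul.2 (mul_inv_eq_iff_eq_mul.mp h3)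
    rw [← ofMul_toMul w, show w.toMul = (1 : V) from Subtype.ext h4, ofMul_one]

end Cfsg.Agent.Classes23
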